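import Mathlib
import Cfsg.Agent.Lib.Twist.Pc
import Cfsg.Agent.Lib.Twist.BitTab

/-!
# Involutions of `²F₄(q)`; the group `²F₄(2)` and its commutator subgroup
-/

set_option autoImplicit false
set_option linter.unusedSectionVars false
set_option maxRecDepth 100000

namespace H39

open H38 Cfsg Cfsg.Lie
open scoped commutatorElement

namespace F4I

/-- Conjugating elements. -/
def certs : List (List (Fin 4) × List (Fin 4) × List ℕ × ℕ) :=
  [([], [], [1, 2, 2, 2, 3, 3, 3, 3, 3, 3, 3, 3, 3, 0, 1, 0, 2, 2, 2, 3, 0, 1, 0, 2, 2, 1], 1),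
   ([1, 2], [1, 2, 1, 2], [0, 1, 0, 2, 2, 2, 2, 2, 2, 3, 3, 3, 2, 0, 1, 0, 3], 0),
   ([0, 3], [0, 3], [2, 2, 2, 2, 2, 2, 3, 3, 3, 2, 2, 2, 2, 2, 2, 2, 2, 2, 0, 1, 0, 2, 2, 2, 3, 2, 2, 1], 1)]

theorem rkA {K : Type*} [Field K] [CharP K 2] {R : H38.RootSys chevF4}
    {E : H38.Elts R.toRS K (GL chevF4.Idx K)} (hE : H38.IsMat R E) :
    (H39.mt (H39.w1 hE [33, 24]) - 1).rank = 24 :=
  H39.tabOK_F4.rank_eq (B := 0x40000000000000100000000000002000000000000010000000000000c000000000020800000000000030000000000002000000000000080000000000002000000000000080000040000002000000000000004000200000000200000000000018000000000001000000000000020000000000000600000000000240000000000001000000000000080000000000001000000000000040000000000002) (p := [37, 28, 5, 11, 19, 21, 20, 14, 23, 22, 24, 0, 26, 3, 30, 38, 40, 39, 46, 45, 47, 42, 48, 51])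
    (B' := 0x8000000000000200000000000010000000000000800000000000040000000000002208000000000080000000000004000000000000100000000000008200000000000400000000000020000000000000040000000000001000000000000040000000000001000000000000080000000000004100000000000200000000000010240000000000800000000000004000000000000100000000000008000000000000040000000000002000000000000080000000000001) (p' := [0, 3, 5, 6, 11, 12, 14, 19, 20, 21, 22, 23, 24, 26, 28, 30, 37, 38, 39, 40, 42, 43, 45, 46, 47, 48, 49, 51]) (by decide +kernel)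

theorem rkB {K : Type*} [Field K] [CharP K 2] {R : H38.RootSys chevF4}
    {E : H38.Elts R.toRS K (GL chevF4.Idx K)} (hE : H38.IsMat R E) :
    (H39.mt (H39.w1 hE [27, 25, 28, 27, 25, 28]) - 1).rank = 21 :=
  H39.tabOK_F4.rank_eq (B := 0xc000000000000800000000000005000000000000400000000000006000000000000400000000000000500000000000040000000000000480000800000040000090000004a000000000000180000000000010000000000000140000000000010000000000000180000000000010000000000000060000000000004000000000000090000000000001) (p := [32, 34, 9, 8, 15, 13, 18, 17, 27, 25, 29, 31, 1, 36, 35, 41, 39, 44, 43, 50, 49])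
    (B' := 0x8000000000000400000000000020000000000001000000000000020000000000001000000000000080000000000002000000000000080000000000001000000000000080000000000004000000000000200000000000010000000000000800000000000020000000000000800000000000020000000000001000001000000040000000000000400000000000020000000000000800000000000020000000000000400000000000020000000000001000000000000080000000000001000000000000050000000000002) (p' := [1, 2, 4, 7, 8, 9, 10, 13, 15, 17, 18, 22, 24, 25, 27, 29, 31, 32, 33, 34, 35, 36, 39, 41, 43, 44, 45, 48, 49, 50, 51]) (by decide +kernel)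

/-- Generators of `²F₄(2)`. -/
def gens : List (List ℕ) := [[33, 24], [14, 23], [27, 25, 28], [20, 22, 19]]

theorem ok : invOK chevF4 52 tabF4 gens [[2, 2], [0]]
    ([0, 1, 0, 2, 1, 0, 2, 1, 2, 3, 2, 1, 0, 2, 1, 2, 3, 2, 1, 0, 2, 1, 2, 3] : List (Fin 4)) certs = true := by decide +kernel

theorem cover : ∀ b : Fin 4 → Bool, (∀ i, b (rho2F4 i) = b i) → (∃ i, b i = false) →
    ∃ c ∈ certs, ∀ i, b i = decide (i ∈ c.1) := by decide +kernel

/-- A polycyclic sequence for a subgroup of index two in the Sylow 2-subgroup of `²F₄(2)`. -/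
def pc : List (List ℕ × List ℕ × List (List ℕ)) :=
  [([25, 27, 26, 28, 34, 36], [2, 3, 4, 6, 8], [[0, 1, 3, 4, 5, 6, 7, 8], [1, 3, 6, 8], [2, 5, 8, 9], [3, 5, 6, 7, 9], [4, 6, 8, 9], [5, 7, 9], [6, 7, 8, 9], [7, 8, 9], [8], [9]]),
   ([24, 33], [], [[0, 3, 5], [1, 2, 3, 4, 5, 6, 8], [2, 5, 8], [3], [4, 5, 6], [5], [6], [7, 8], [8]]),
   ([26, 34, 35, 31, 42, 46], [2, 6], [[0, 3, 5, 7], [1, 4, 5, 7], [2], [3, 5, 6], [4, 7], [5, 7], [6], [7]]),
   ([28, 30], [], [[0], [1, 4, 5, 6], [2], [3, 5], [4], [5], [6]]),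
   ([29, 35, 31, 41, 39, 40, 44], [3, 4, 5], [[0], [1, 4], [2, 5], [3], [4], [5]]),
   ([36, 42], [], [[0, 4], [1], [2], [3], [4]]),
   ([37, 32], [], [[0], [1], [2], [3]]),
   ([38, 43], [], [[0], [1], [2]]),
   ([39, 45], [], [[0], [1]]),
   ([40, 46], [], [[0]]),
   ([44, 47], [], [])]

theorem pc_ok : pcOK 48 52 tabF4 pc = true := by decide +kernel

theorem pc_top : pcStep 48 52 tabF4 (pc.map Prod.fst)
    ([27, 25, 28], [3], [[0, 4, 9], [1, 2, 6, 7, 8], [2, 4, 6, 7, 10], [3], [4, 6, 9], [5, 7, 8, 9], [6], [7, 8, 10], [8, 9], [9], [10]]) = true := by decide +kernel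

/-- The blocks of the distinguished generators of the Weyl group. -/
def blk : Fin 4 → List (Fin 4) := ![[0, 3], [1, 2, 1, 2], [1, 2, 1, 2], [0, 3]]

/-- The generators of the fundamental root groups. -/
def yy : Fin 4 → List ℕ := ![[33, 24], [27, 25, 28], [27, 25, 28], [33, 24]]

/-- The parity check. -/
noncomputable def parB (w : List ℕ) (p : Bool) (c : List ℕ) : Bool :=
  eqB 48 52 tabF4 (w ++ cond p [27, 25, 28] []) (ex (pc.map Prod.fst) c)

theorem c8 : ∀ w ∈ gw (fun i => nw chevF4 (blk i)) yy [0, 1, 0, 1, 0, 1, 0, 1], ∃ c ∈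
    [(false, [1]), (true, [0, 3, 4, 5, 7, 10]), (false, [7]), (true, [0, 2, 3, 4]), (false, [8]), (true, [0, 2, 3, 6, 9]), (false, [6]), (true, [3])], parB w c.1 c.2 = true := by
  intro w hw
  simp only [gw, List.map_cons, List.map_nil, List.mem_cons, List.not_mem_nil, or_false] at hw
  rcases hw with rfl | rfl | rfl | rfl | rfl | rfl | rfl | rfl
  · exact ⟨(false, [1]), by simp, by decide +kernel⟩
  · exact ⟨(true, [0, 3, 4, 5, 7, 10]), by simp, by decide +kernel⟩
  · exact ⟨(false, [7]), by simp, by decide +kernel⟩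
  · exact ⟨(true, [0, 2, 3, 4]), by simp, by decide +kernel⟩
  · exact ⟨(false, [8]), by simp, by decide +kernel⟩
  · exact ⟨(true, [0, 2, 3, 6, 9]), by simp, by decide +kernel⟩
  · exact ⟨(false, [6]), by simp, by decide +kernel⟩
  · exact ⟨(true, [3]), by simp, by decide +kernel⟩

theorem c70 : ∀ w ∈ gw (fun i => nw chevF4 (blk i)) yy [1, 0, 1, 0, 1, 0, 1], ∃ p c c',
    (parB w p c && parB (nw chevF4 (blk 0) ++ w ++ nw chevF4 (blk 0)) p c') = true := by
  intro w hw
  simp only [gw, List.map_cons, List.map_nil, List.mem_cons, List.not_mem_nil, or_false] at hw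
  rcases hw with rfl | rfl | rfl | rfl | rfl | rfl | rfl
  · exact ⟨true, [3], [0, 3, 4, 5, 7, 10], by decide +kernel⟩
  · exact ⟨false, [6], [7], by decide +kernel⟩
  · exact ⟨true, [0, 2, 3, 6, 9], [0, 2, 3, 4], by decide +kernel⟩
  · exact ⟨false, [8], [8], by decide +kernel⟩
  · exact ⟨true, [0, 2, 3, 4], [0, 2, 3, 6, 9], by decide +kernel⟩
  · exact ⟨false, [7], [6], by decide +kernel⟩
  · exact ⟨true, [0, 3, 4, 5, 7, 10], [3], by decide +kernel⟩

theorem c71 : ∀ w ∈ gw (fun i => nw chevF4 (blk i)) yy [0, 1, 0, 1, 0, 1, 0], ∃ p c c',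
    (parB w p c && parB (nw chevF4 (blk 1) ++ w ++ nw chevF4 (blk 1)) p c') = true := by
  intro w hw
  simp only [gw, List.map_cons, List.map_nil, List.mem_cons, List.not_mem_nil, or_false] at hw
  rcases hw with rfl | rfl | rfl | rfl | rfl | rfl | rfl
  · exact ⟨false, [1], [6], by decide +kernel⟩
  · exact ⟨true, [0, 3, 4, 5, 7, 10], [0, 2, 3, 6, 9], by decide +kernel⟩
  · exact ⟨false, [7], [8], by decide +kernel⟩
  · exact ⟨true, [0, 2, 3, 4], [0, 2, 3, 4], by decide +kernel⟩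
  · exact ⟨false, [8], [7], by decide +kernel⟩
  · exact ⟨true, [0, 2, 3, 6, 9], [0, 3, 4, 5, 7, 10], by decide +kernel⟩
  · exact ⟨false, [6], [1], by decide +kernel⟩

section general

variable {K : Type*} [Field K] [Fintype K] [CharP K 2] {R : RootSys chevF4}
  {E : Elts R.toRS K (GL chevF4.Idx K)} {hE : IsMat R E} {T : Tw hE.grp} {e : ℕ}
  (h : H39.IsF4 (ι := Fin chevF4.nroots) (R := R.toRS) T e)
  (hA : twistedF4 K e = T.Γ.map (chevF4.group K).subtype)
include h hA

theorem gens_mem : ∀ w ∈ gens, w1 hE w ∈ T.Γ := by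
  have he : e ≠ 0 := fun e0 => by
    have := h.hK
    rw [e0] at this
    exact Fintype.card_ne_zero this
  have z : ∀ r < 48, hE.grpRel.x r 0 = 1 := fun r hr => hE.grpRel.x_zero hr
  intro w hw
  simp only [gens, List.mem_cons, List.not_mem_nil, or_false] at hw
  rcases hw with rfl | rfl | rfl | rfl
  · have := wd_mem hA rfl (w := f4PairWord e f4p1 f4p4 1) (Or.inl ⟨1, Or.inl rfl⟩)
    simpa [wd, w1, f4PairWord, f4p1, f4p4] using this
  · have := wd_mem hA rfl (w := f4PairWord e f4m1 f4m4 1) (Or.inl ⟨1, Or.inr rfl⟩)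
    simpa [wd, w1, f4PairWord, f4m1, f4m4] using this
  · have := wd_mem hA rfl (w := b2ClassWord e f4a f4b f4ab f4aab 1 0) (Or.inr ⟨1, 0, Or.inl rfl⟩)
    simpa [wd, w1, b2ClassWord, f4a, f4b, f4ab, f4aab, he, z] using this
  · have := wd_mem hA rfl (w := b2ClassWord e f4ma f4mb f4mab f4maab 1 0)
      (Or.inr ⟨1, 0, Or.inr rfl⟩)
    simpa [wd, w1, b2ClassWord, f4ma, f4mb, f4mab, f4maab, he, z] using this

theorem invol {t : chevF4.group K} (ht : t ∈ T.Γ) (h2 : t * t = 1) (h1 : t ≠ 1) :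
    ∃ g ∈ T.Γ, ∃ i : Fin 2, g * t * g⁻¹ = ![w1 hE [27, 25, 28, 27, 25, 28], w1 hE [33, 24]] i := by
  obtain ⟨g, hg, k, hk, e⟩ := tabOK_F4.invol h.good (gens_mem h hA) ok h.hρ cover ht h2 h1
  refine ⟨g, hg, ⟨k, hk⟩, e.trans ?_⟩
  obtain rfl | rfl : k = 0 ∨ k = 1 := by simp at hk; omega
  all_goals rfl

theorem ncard : (ConjClasses.mk '' {g : twistedF4 K e | orderOf g = 2}).ncard = 2 := by
  refine ncard_tw hA ![w1 hE [27, 25, 28, 27, 25, 28], w1 hE [33, 24]] (fun i => ?_) (fun i => ?_)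
    ![21, 24] (fun i => ?_) (by decide) (by decide) fun t => invol h hA
  · fin_cases i
    · exact w1_ex_mem hE (gens_mem h hA) [2, 2]
    · exact w1_ex_mem hE (gens_mem h hA) [0]
  · fin_cases i <;> exact (w1_append hE _ _).symm.trans
      (tabOK_F4.w1_eq hE (w' := []) (by decide +kernel))
  · fin_cases i
    · exact rkB hE
    · exact rkA hE

theorem wo_eq (i : Fin 4) : T.S.wo i = ((blk i).map R.s).prod := by
  have h1 : T.S.wo (1 : Fin 4) = ((blk 1).map R.s).prod :=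
    (wJ_of_word (I := ([1, 2] : List (Fin 4))) (by decide +kernel) fun i : Fin 4 =>
      (Set.ext_iff.mp h.orb1 i).trans (show i = 1 ∨ i = 2 ↔ i ∈ [1, 2] by simp)).symm
  fin_cases i
  · exact h.orth0.wo_eq
  · exact h1
  · exact (T.S.wo_eq_of_mem ((Set.ext_iff.mp h.orb1 2).mpr (by simp))).trans h1
  · exact h.orth3.wo_eq

end general

section two

variable {R : RootSys chevF4}
  {E : Elts R.toRS (ZMod 2) (GL chevF4.Idx (ZMod 2))} {hE : IsMat R E} {T : Tw hE.grp}
  (h : H39.IsF4 (ι := Fin chevF4.nroots) (R := R.toRS) T 1)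
  (hA : twistedF4 (ZMod 2) 1 = T.Γ.map (chevF4.group (ZMod 2)).subtype)
include h hA

theorem H_eq : ∀ g ∈ hE.grp.H, g = 1 := fun g hg => by
  simpa using Tw.pow_card_sub_one h.h3 hg

theorem rep_eq {i : Fin 4} {n : chevF4.group (ZMod 2)} (hn : hE.grp.Rep n (T.S.wo i)) :
    n = w1 hE (nw chevF4 (blk i)) :=
  mul_inv_eq_one.mp (H_eq h hA _ (Elts.Rep.mul_inv_mem_H _ hn
    ((wo_eq h hA i).symm ▸ rep_nw hE (blk i))))

theorem n_mem (i : Fin 4) : w1 hE (nw chevF4 (blk i)) ∈ T.Γ := by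
  obtain ⟨n, hn, hr⟩ := h.good.exists_rep_wo i
  exact rep_eq h hA hr ▸ T.G1_le_Γ hn

theorem n_sq (i : Fin 4) : w1 hE (nw chevF4 (blk i)) * w1 hE (nw chevF4 (blk i)) = 1 :=
  (w1_append hE _ _).symm.trans (tabOK_F4.w1_eq hE (w' := []) (by revert i; decide +kernel))

theorem PJ_le (i : Fin 4) : hE.grp.XS (T.S.PJ i) ⊓ T.Γ ≤ Cl hE [yy i] := by
  have p1 : Tw.IsPM R.toRS R.sim := Or.inl rfl
  have z : ∀ r < 48, hE.grpRel.x r 0 = 1 := fun r hr => hE.grpRel.x_zero hr
  have two : ∀ t : ZMod 2, t = 0 ∨ t = 1 := by decide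
  have v0 : (R.sim (0 : Fin 4) : ℕ) = 33 := R.sim_eq _
  have v1 : (R.sim (1 : Fin 4) : ℕ) = 27 := R.sim_eq _
  have v2 : (R.sim (2 : Fin 4) : ℕ) = 25 := R.sim_eq _
  have v3 : (R.sim (3 : Fin 4) : ℕ) = 24 := R.sim_eq _
  have vc : (R.s (2 : Fin 4) (R.sim (1 : Fin 4)) : ℕ) = 28 :=
    (R.s_val _ _).trans (by rw [v1]; decide +kernel)
  have vd : (R.s (1 : Fin 4) (R.sim (2 : Fin 4)) : ℕ) = 30 :=
    (R.s_val _ _).trans (by rw [v2]; decide +kernel)
  have P0 : hE.grp.XS (T.S.PJ (0 : Fin 4)) ⊓ T.Γ ≤ Cl hE [[33, 24]] := fun g hg => by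
    obtain ⟨t, rfl⟩ := (h.mem03 p1).mp (h.orth0.PJ_eq ▸ hg)
    rw [grp_x_eq hE v0, grp_x_eq hE v3]
    rcases two t with rfl | rfl
    · simp [z]
    · simpa [w1] using mem_Cl hE (gs := [[33, 24]]) List.mem_cons_self
  have P1 : hE.grp.XS (T.S.PJ (1 : Fin 4)) ⊓ T.Γ ≤ Cl hE [[27, 25, 28]] := fun g hg => by
    obtain ⟨t, u, rfl⟩ := (h.mem12 p1).mp (h.PJ1 ▸ hg)
    erw [grp_x_eq hE v1, grp_x_eq hE v2, grp_x_eq hE vc, grp_x_eq hE vd]
    have e2 : w1 hE [28, 30] ∈ Cl hE [[27, 25, 28]] := by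
      rw [tabOK_F4.w1_eq hE (w := [28, 30]) (w' := ex [[27, 25, 28]] [0, 0]) (by decide +kernel)]
      exact ex_mem_Cl hE _ _
    have e3 : w1 hE [27, 25, 30] ∈ Cl hE [[27, 25, 28]] := by
      rw [tabOK_F4.w1_eq hE (w := [27, 25, 30]) (w' := ex [[27, 25, 28]] [0, 0, 0])
        (by decide +kernel)]
      exact ex_mem_Cl hE _ _
    rcases two t with rfl | rfl <;> rcases two u with rfl | rfl
    · simp [z]
    · simpa [w1, z] using e2
    · simpa [w1, z] using mem_Cl hE (gs := [[27, 25, 28]]) List.mem_cons_self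
    · simpa [w1, z, CharTwo.add_self_eq_zero] using e3
  fin_cases i
  · exact P0
  · exact P1
  · exact h.PJ2.symm ▸ P1
  · exact h.PJ3.symm ▸ P0

theorem U_le : hE.grp.U ⊓ T.Γ ≤
    Cl hE (gw (fun i => nw chevF4 (blk i)) yy [0, 1, 0, 1, 0, 1, 0, 1]) :=
  U_le_Cl (wo_eq h hA) (n_mem h hA) (n_sq h hA) (PJ_le h hA) (by decide +kernel) (by decide +kernel)

omit h hA in
theorem par_spec {w c : List ℕ} {p : Bool} (e : parB w p c = true) :
    (p = false ∧ w1 hE w ∈ Cl hE (pc.map Prod.fst)) ∨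
      (p = true ∧ w1 hE w * w1 hE [27, 25, 28] ∈ Cl hE (pc.map Prod.fst)) := by
  have := ex_mem_Cl hE (pc.map Prod.fst) c
  rw [← tabOK_F4.w1_eq hE e, w1_append] at this
  cases p
  · rw [cond_false, w1_nil, mul_one] at this
    exact Or.inl ⟨rfl, this⟩
  · rw [cond_true] at this
    exact Or.inr ⟨rfl, this⟩

theorem U_par : ∀ x ∈ hE.grp.U ⊓ T.Γ, x ∈ Cl hE (pc.map Prod.fst) ∨
    x * w1 hE [27, 25, 28] ∈ Cl hE (pc.map Prod.fst) := by
  obtain ⟨h1, h2⟩ := tabOK_F4.pcStep hE pc_top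
  refine pc_step h1 h2 ?_ (U_le h hA)
  rintro _ ⟨w, hw, rfl⟩
  obtain ⟨⟨p, c⟩, -, e⟩ := c8 w hw
  exact (par_spec e).imp And.right And.right

theorem b_mem_U : w1 hE [27, 25, 28] ∈ hE.grp.U ⊓ T.Γ := by
  refine ⟨?_, gens_mem h hA _ (by simp [gens])⟩
  have : ∀ r : Fin chevF4.nroots, chevF4.IsPosRoot r → hE.grpRel.x r 1 ∈ hE.grp.U := fun r hr =>
    grp_x_eq hE rfl 1 ▸ hE.grp.x_mem_U ((R.isPosRoot_iff r).mp hr) 1
  exact Subgroup.mul_mem _ (this (27 : Fin 48) (by decide +kernel)) (Subgroup.mul_mem _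
    (this (25 : Fin 48) (by decide +kernel)) (Subgroup.mul_mem _
    (this (28 : Fin 48) (by decide +kernel)) (one_mem _)))

theorem b_not_mem : w1 hE [27, 25, 28] ∉ Cl hE (pc.map Prod.fst) := fun hb => by
  have h1 : hE.grp.U ⊓ T.Γ ≤ Cl hE (pc.map Prod.fst) := fun x hx =>
    (U_par h hA x hx).elim id (Subgroup.mul_mem_cancel_right _ hb).mp
  have h2 := (Subgroup.card_le_of_le h1).trans (tabOK_F4.card_Cl hE pc_ok)
  have h3 : Nat.card ↥(hE.grp.U ⊓ T.Γ) = _ := h.card_U
  rw [h3] at h2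
  simp [pc] at h2

theorem fusion {g x : chevF4.group (ZMod 2)} (hg : g ∈ T.Γ) (hx : x ∈ hE.grp.U ⊓ T.Γ)
    (hy : g * x * g⁻¹ ∈ hE.grp.U) :
    g * x * g⁻¹ ∈ Cl hE (pc.map Prod.fst) ↔ x ∈ Cl hE (pc.map Prod.fst) := by
  obtain ⟨h1, h2⟩ := tabOK_F4.pcStep hE pc_top
  have hb := b_not_mem h hA
  have key : ∀ (m : List ℕ) (gs : List (List ℕ)), w1 hE m * w1 hE m = 1 →
      (∀ w ∈ gs, ∃ p c c', (parB w p c && parB (m ++ w ++ m) p c') = true) → ∀ x ∈ Cl hE gs,
      (w1 hE m * x * (w1 hE m)⁻¹ ∈ Cl hE (pc.map Prod.fst) ↔ x ∈ Cl hE (pc.map Prod.fst)) := by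
    intro m gs hn hc
    refine par_conj h1 h2 hb ?_
    rintro _ ⟨w, hw, rfl⟩
    obtain ⟨p, c, c', e⟩ := hc w hw
    rw [Bool.and_eq_true] at e
    have e1 := par_spec (hE := hE) e.1
    have e2 := par_spec (hE := hE) e.2
    rw [w1_conj hE hn] at e2
    rcases e1 with ⟨rfl, e1⟩ | ⟨rfl, e1⟩ <;> rcases e2 with ⟨⟨⟩, e2⟩ | ⟨⟨⟩, e2⟩
    · exact Or.inl ⟨e1, e2⟩
    · exact Or.inr ⟨e1, e2⟩
  refine h.good.fusion (fun x hx y hy => parity h1 h2 hb (U_par h hA x hx) (U_par h hA y hy))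
    (H_eq h hA) (fun i n hn x hx => ?_) hg hx hy
  rcases h.orb_cases i with hi | hi
  · erw [T.S.wo_eq_of_mem hi] at hn hx
    rw [rep_eq h hA hn]
    exact key _ _ (n_sq h hA 0) c70 x
      (rad_le_Cl (wo_eq h hA)
      (n_mem h hA) (n_sq h hA) (PJ_le h hA) (by decide +kernel) (by decide +kernel) hx)
  · erw [T.S.wo_eq_of_mem hi] at hn hx
    rw [rep_eq h hA hn]
    exact key _ _ (n_sq h hA 1) c71 x
      (rad_le_Cl (wo_eq h hA)
      (n_mem h hA) (n_sq h hA) (PJ_le h hA) (by decide +kernel) (by decide +kernel) hx)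

theorem Γ_le {X : Subgroup (chevF4.group (ZMod 2))} (hX : ∀ i, w1 hE (nw chevF4 (blk i)) ∈ X)
    (hy : ∀ i, w1 hE (yy i) ∈ X) : T.Γ ≤ X := by
  refine Tw.Γ_le ((U_le h hA).trans ((Cl_le hE).mpr ?_))
    (fun g hg => H_eq h hA g hg.1 ▸ one_mem _)
    fun i => ⟨_, ⟨hX i, n_mem h hA i⟩, (wo_eq h hA i).symm ▸ rep_nw hE (blk i)⟩
  generalize ([0, 1, 0, 1, 0, 1, 0, 1] : List (Fin 4)) = L
  induction L with
  | nil => exact fun _ hw => absurd hw List.not_mem_nil
  | cons i L ih =>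
    intro w hw
    rcases List.mem_cons.mp hw with rfl | hw
    · exact hy i
    · obtain ⟨s, hs, rfl⟩ := List.mem_map.mp hw
      exact (w1_append hE _ _).symm ▸ X.mul_mem ((w1_append hE _ _).symm ▸
        X.mul_mem (hX i) (ih s hs)) (hX i)

end two

end F4I

/-- The facts about `²F₄(2)` used for the study of its commutator subgroup. -/
structure TitsData (Q : Type*) [Group Q] (a b c : Q) : Prop where
  card : Nat.card Q = 35942400
  a2 : orderOf a = 2
  b2 : orderOf (b * b) = 2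
  inv : ∀ t, orderOf t = 2 → IsConj t a ∨ IsConj t (b * b)
  not_conj : ¬ IsConj a (b * b)
  gen : ∀ X : Subgroup Q, (∀ t, t * t = 1 → t ∈ X) → b ∈ X → X = ⊤
  comm_a : ∃ x y, a = ⁅x, y⁆ ∧ ∀ X : Subgroup Q, (∀ t, t * t = 1 → t ∈ X) → x ∈ X ∧ y ∈ X
  comm_b : ∃ x y, b * b = ⁅x, y⁆ ∧ ∀ X : Subgroup Q, (∀ t, t * t = 1 → t ∈ X) → x ∈ X ∧ y ∈ X
  b_not : b ∉ commutator Q
  ca : c * a = a * c
  cb : IsConj b c
  solv : ∀ N : Subgroup Q, ∀ _ : N.Normal, N ≠ ⊥ → Group.IsSolvable (Q ⧸ N)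

namespace TitsData

variable {Q : Type*} [Group Q] {a b c : Q} (h : TitsData Q a b c)
include h

theorem finite : Finite Q := Nat.finite_of_card_ne_zero (by rw [h.card]; decide)

theorem inv_mem {N : Subgroup Q} [hN : N.Normal] (ha : a ∈ N) (hb : b * b ∈ N) (t : Q)
    (ht : t * t = 1) : t ∈ N := by
  by_cases h1 : t = 1
  · exact h1 ▸ one_mem _
  rcases h.inv t (orderOf_eq_prime ((pow_two t).trans ht) h1) with e | e
  · obtain ⟨g, rfl⟩ := isConj_iff.mp e.symm; exact hN.conj_mem _ ha g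
  · obtain ⟨g, rfl⟩ := isConj_iff.mp e.symm; exact hN.conj_mem _ hb g

theorem mem_or {N : Subgroup Q} [hN : N.Normal] (ha : a ∈ N) (hb : b * b ∈ N) (g : Q) :
    g ∈ N ∨ g * b ∈ N :=
  pc_step hb (fun s hs => hN.conj_mem s hs b) (S := insert b N)
    (by rintro _ (rfl | hs); exacts [Or.inr hb, Or.inl hs]) le_rfl g (by
      rw [h.gen (Subgroup.closure (insert b (N : Set Q))) (fun t ht => Subgroup.subset_closure
        (Or.inr (h.inv_mem ha hb t ht))) (Subgroup.subset_closure (Or.inl rfl))]; trivial)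

theorem a_mem : a ∈ commutator Q := by
  obtain ⟨x, y, rfl, -⟩ := h.comm_a
  exact Subgroup.commutator_mem_commutator trivial trivial

theorem bb_mem : b * b ∈ commutator Q := by
  obtain ⟨x, y, e, -⟩ := h.comm_b
  exact e ▸ Subgroup.commutator_mem_commutator trivial trivial

theorem mem_commutator {t : Q} (ht : t * t = 1) : t ∈ commutator Q := h.inv_mem h.a_mem h.bb_mem t ht

theorem index : (commutator Q).index = 2 :=
  Subgroup.index_eq_two_iff.mpr ⟨b, fun g => by
    rcases h.mem_or h.a_mem h.bb_mem g with h1 | h1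
    · exact Or.inr ⟨h1, fun h2 => h.b_not ((Subgroup.mul_mem_cancel_left _ h1).mp h2)⟩
    · exact Or.inl ⟨h1, fun h2 => h.b_not ((Subgroup.mul_mem_cancel_left _ h2).mp h1)⟩⟩

theorem card_commutator : Nat.card (commutator Q) = 17971200 := by
  have := (commutator Q).card_mul_index
  rw [h.index, h.card] at this
  omega

theorem perfect : commutator Q ≤ ⁅commutator Q, commutator Q⁆ := by
  intro g hg
  have h1 : a ∈ ⁅commutator Q, commutator Q⁆ := by
    obtain ⟨x, y, e, h1⟩ := h.comm_a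
    have := h1 _ fun _ => h.mem_commutator
    exact e ▸ Subgroup.commutator_mem_commutator this.1 this.2
  have h2 : b * b ∈ ⁅commutator Q, commutator Q⁆ := by
    obtain ⟨x, y, e, h1⟩ := h.comm_b
    have := h1 _ fun _ => h.mem_commutator
    exact e ▸ Subgroup.commutator_mem_commutator this.1 this.2
  refine (h.mem_or h1 h2 g).resolve_right fun h3 => h.b_not ?_
  exact (Subgroup.mul_mem_cancel_left _ hg).mp (Subgroup.commutator_le_left _ _ h3)

theorem le_of_normal (N : Subgroup Q) [hN : N.Normal] (h0 : N ≠ ⊥) : commutator Q ≤ N := by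
  obtain ⟨n, hn⟩ := (h.solv N hN h0).solvable
  have h1 : ∀ k, commutator Q ≤ derivedSeries Q k := by
    intro k
    induction k with
    | zero => exact le_top
    | succ k ih => exact h.perfect.trans (Subgroup.commutator_mono ih ih)
  have h2 := map_derivedSeries_le_derivedSeries (QuotientGroup.mk' N) n
  rw [hn, le_bot_iff, Subgroup.map_eq_bot_iff, QuotientGroup.ker_mk'] at h2
  exact (h1 n).trans h2

theorem simple : IsSimpleGroup (commutator Q) := by
  have := h.finite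
  have : Nontrivial (commutator Q) :=
    Finite.one_lt_card_iff_nontrivial.mp (by rw [h.card_commutator]; decide)
  refine ⟨fun M hM => ?_⟩
  by_contra hn
  rw [not_or] at hn
  let β : MulAut (commutator Q) := MulAut.conjNormal b
  let M' : Subgroup (commutator Q) := M.map β.toMonoidHom
  have hM' : M'.Normal := hM.map _ β.surjective
  have hβ : M'.map β.toMonoidHom = M := by
    rw [Subgroup.map_map]
    have : β.toMonoidHom.comp β.toMonoidHom = (MulAut.conj ⟨b * b, h.bb_mem⟩).toMonoidHom := by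
      ext x; simp [β, mul_assoc]
    rw [this]
    exact Subgroup.Normal.map_conj_eq M _
  have key : ∀ X : Subgroup (commutator Q), X.Normal → X.map β.toMonoidHom = X → X ≠ ⊥ → X = ⊤ := by
    intro X hX h1 h2
    have h3 : ∀ g ∈ commutator Q, ∀ x ∈ X.map (commutator Q).subtype,
        g * x * g⁻¹ ∈ X.map (commutator Q).subtype := by
      rintro g hg _ ⟨x, hx, rfl⟩
      exact ⟨_, hX.conj_mem x hx ⟨g, hg⟩, rfl⟩
    have : (X.map (commutator Q).subtype).Normal := ⟨fun x hx g => by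
      rcases h.mem_or h.a_mem h.bb_mem g with h4 | h4
      · exact h3 g h4 x hx
      · obtain ⟨x, hx, rfl⟩ := hx
        rw [← h1] at hx
        obtain ⟨y, hy, rfl⟩ := hx
        have := h3 _ h4 _ ⟨y, hy, rfl⟩
        simpa [β, mul_assoc] using this⟩
    have h5 := h.le_of_normal (X.map (commutator Q).subtype) (by
      rwa [Ne, Subgroup.map_eq_bot_iff_of_injective _ (commutator Q).subtype_injective])
    rw [eq_top_iff]
    intro x _
    obtain ⟨y, hy, e⟩ := h5 x.2
    exact Subtype.ext e ▸ hy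
  have h1 : M ⊔ M' = ⊤ := key _ inferInstance (by rw [Subgroup.map_sup, hβ, sup_comm])
    fun e => hn.1 (le_bot_iff.mp (e ▸ le_sup_left))
  have h2 : M ⊓ M' = ⊥ := by
    by_contra h2
    exact hn.2 (top_le_iff.mp ((key _ inferInstance (by
      rw [Subgroup.map_inf _ _ β.toMonoidHom β.injective, hβ, inf_comm]) h2) ▸ inf_le_left))
  have h3 := (Subgroup.isComplement'_of_disjoint_and_mul_eq_univ (disjoint_iff.mpr h2)
    (by rw [← Subgroup.normal_mul, h1, Subgroup.coe_top])).card_mul_card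
  rw [Subgroup.card_map_of_injective (f := β.toMonoidHom) β.injective, h.card_commutator] at h3
  have h4 : 13 ∣ Nat.card M := by
    have : 13 ∣ Nat.card M * Nat.card M := by rw [h3]; decide
    exact (Nat.Prime.dvd_mul (by decide)).mp this |>.elim id id
  have := Nat.mul_dvd_mul h4 h4
  rw [h3] at this
  exact absurd this (by decide)

theorem not_comm : ¬ IsMulCommutative (commutator Q) := fun hc => by
  have h1 : ⁅commutator Q, commutator Q⁆ = ⊥ := by
    rw [eq_bot_iff, Subgroup.commutator_le]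
    intro x hx y hy
    rw [Subgroup.mem_bot, commutatorElement_eq_one_iff_mul_comm]
    exact congrArg Subtype.val (hc.is_comm.comm ⟨x, hx⟩ ⟨y, hy⟩)
  have h2 := h.card_commutator
  rw [le_bot_iff.mp (h.perfect.trans h1.le)] at h2
  simp at h2

theorem ncard_commutator :
    (ConjClasses.mk '' {g : commutator Q | orderOf g = 2}).ncard = 2 := by
  have key : ∀ (t r : commutator Q) (d : Q), IsConj (t : Q) r → d * r = r * d →
      d ∉ commutator Q → IsConj t r := by
    intro t r d h1 h2 h3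
    obtain ⟨g, hg⟩ := isConj_iff.mp h1
    by_cases h4 : g ∈ commutator Q
    · exact isConj_iff.mpr ⟨⟨g, h4⟩, Subtype.ext hg⟩
    · refine isConj_iff.mpr ⟨⟨d * g, (Subgroup.mul_mem_iff_of_index_two h.index).mpr
        (iff_of_false h3 h4)⟩, Subtype.ext ?_⟩
      change d * g * t * (d * g)⁻¹ = r
      rw [← mul_inv_eq_iff_eq_mul, mul_inv_eq_iff_eq_mul] at h2
      calc d * g * t * (d * g)⁻¹ = d * (g * t * g⁻¹) * d⁻¹ := by group
        _ = r := by rw [hg, h2]; group
  refine ncard_classes ![⟨a, h.a_mem⟩, ⟨b * b, h.bb_mem⟩] (fun i => ?_) (fun i j hij => ?_)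
    fun g hg => ?_
  · fin_cases i
    · exact (Subgroup.orderOf_coe _).symm.trans h.a2
    · exact (Subgroup.orderOf_coe _).symm.trans h.b2
  · have := (commutator Q).subtype.map_isConj hij
    fin_cases i <;> fin_cases j
    · rfl
    · exact absurd this h.not_conj
    · exact absurd this.symm h.not_conj
    · rfl
  · rcases h.inv g ((Subgroup.orderOf_coe g).trans hg) with e | e
    · refine ⟨0, key _ _ c e h.ca fun hc => h.b_not ?_⟩
      obtain ⟨x, hx⟩ := isConj_iff.mp h.cb.symm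
      exact hx ▸ Subgroup.Normal.conj_mem inferInstance _ hc x
    · exact ⟨1, key _ _ b e (mul_assoc b b b).symm h.b_not⟩

end TitsData

open F4I in
theorem exists_titsData : ∃ a b c : twistedF4 (ZMod 2) 1, TitsData _ a b c := by
  obtain ⟨R, E, hE, T, h, hA⟩ := exists_F4 (K := ZMod 2) (m := 0) rfl
  replace hA : twistedF4 (ZMod 2) 1 = _ := hA
  replace h : H39.IsF4 (ι := Fin chevF4.nroots) (R := R.toRS) T 1 := h
  let M := twModel hA
  have hg := gens_mem h hA
  have eq : ∀ w w', eqB 48 52 tabF4 w w' = true → w1 hE w = w1 hE w' := fun w w' =>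
    tabOK_F4.w1_eq hE
  obtain ⟨a, ha⟩ := M.lift (hg [33, 24] (by simp [gens]))
  obtain ⟨a', ha'⟩ := M.lift (hg [14, 23] (by simp [gens]))
  obtain ⟨b, hb⟩ := M.lift (hg [27, 25, 28] (by simp [gens]))
  choose n hn using fun i => M.lift (n_mem h hA i)
  have hbb : M.f (b * b) = w1 hE [27, 25, 28, 27, 25, 28] := by
    rw [map_mul, hb, ← w1_append]; rfl
  have sq : ∀ {x w}, M.f x = w1 hE w → eqB 48 52 tabF4 (w ++ w) [] = true → x * x = 1 :=
    fun {x w} h1 h2 => M.inj (by rw [map_mul, h1, ← w1_append, eq _ _ h2, w1_nil, map_one])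
  have n2 : ∀ i, n i * n i = 1 := fun i => M.inj (by rw [map_mul, hn, n_sq h hA, map_one])
  have rk : ∀ {x y}, IsConj x y → (mt (M.f x) - 1).rank = (mt (M.f y) - 1).rank := fun hxy => by
    obtain ⟨c, rfl⟩ := isConj_iff.mp hxy
    rw [map_mul, map_mul, map_inv, rank_conj]
  have ne : ∀ {x k}, (mt (M.f x) - 1).rank = k + 1 → x ≠ 1 := fun h1 h2 => by
    rw [h2, map_one, mt_one, sub_self, Matrix.rank_zero] at h1; omega
  have a2 : a * a = 1 := sq ha (by decide +kernel)
  have b2 : b * b * (b * b) = 1 := sq hbb (by decide +kernel)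
  let gI : List (List ℕ) := [[33, 24], [14, 23], nw chevF4 (blk 1), [27, 25, 28, 27, 25, 28]]
  have hI : ∀ w, ∃ x, M.f x = w1 hE (ex gI w) ∧ ∀ X : Subgroup (twistedF4 (ZMod 2) 1),
      (∀ t, t * t = 1 → t ∈ X) → x ∈ X := by
    intro w
    have : w1 hE (ex gI w) ∈ (Subgroup.closure {t : twistedF4 (ZMod 2) 1 | t * t = 1}).map M.f := by
      refine w1_ex_mem hE (fun w hw => ?_) w
      simp only [gI, List.mem_cons, List.not_mem_nil, or_false] at hw
      rcases hw with rfl | rfl | rfl | rfl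
      · exact ⟨a, Subgroup.subset_closure a2, ha⟩
      · exact ⟨a', Subgroup.subset_closure (sq ha' (by decide +kernel)), ha'⟩
      · exact ⟨n 1, Subgroup.subset_closure (n2 1), hn 1⟩
      · exact ⟨b * b, Subgroup.subset_closure b2, hbb⟩
    obtain ⟨x, hx, e⟩ := this
    exact ⟨x, e, fun X hX => (Subgroup.closure_le X).mpr hX hx⟩
  have cm : ∀ {z w} u v, M.f z = w1 hE w →
      eqB 48 52 tabF4 (w ++ ex gI v ++ ex gI u) (ex gI u ++ ex gI v) = true → ∃ x y, z = ⁅x, y⁆ ∧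
      ∀ X : Subgroup (twistedF4 (ZMod 2) 1), (∀ t, t * t = 1 → t ∈ X) → x ∈ X ∧ y ∈ X := by
    intro z w u v h1 h2
    obtain ⟨x, hx, hx'⟩ := hI u
    obtain ⟨y, hy, hy'⟩ := hI v
    refine ⟨x, y, ?_, fun X hX => ⟨hx' X hX, hy' X hX⟩⟩
    have : z * y * x = x * y := M.inj (by
      rw [map_mul, map_mul, map_mul, h1, hx, hy, ← w1_append, ← w1_append, ← w1_append, eq _ _ h2])
    rw [commutatorElement_def, ← this]; group
  have hcard : Nat.card (twistedF4 (ZMod 2) 1) = 35942400 := by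
    rw [card_tw hA]; exact h.card_Γ
  refine ⟨a, b, n 0 * b * (n 0)⁻¹, hcard, orderOf_eq_prime ((pow_two a).trans a2) (ne (ha ▸ rkA hE)),
    orderOf_eq_prime ((pow_two _).trans b2) (ne (hbb ▸ rkB hE)), fun t ht => ?_, fun hc => ?_,
    fun X hX hbX => ?_, cm [1, 2, 3, 2, 0, 1, 2, 3, 1] [2, 1, 2] ha (by decide +kernel),
    cm [2, 1, 0, 2, 3, 0, 3, 2, 1, 2, 3, 2] [1] hbb (by decide +kernel), fun hc => ?_, M.inj ?_,
    isConj_iff.mpr ⟨_, rfl⟩, fun N _ hN => ?_⟩
  · obtain ⟨e1, e2⟩ := orderOf_eq_prime_iff.mp ht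
    obtain ⟨g, hg, i, e⟩ := invol h hA (M.mem t) (by rw [← map_mul, ← pow_two, e1, map_one])
      (fun e => e2 (M.inj (e.trans (map_one _).symm)))
    obtain ⟨g, rfl⟩ := M.lift hg
    rw [← map_inv, ← map_mul, ← map_mul] at e
    fin_cases i
    · exact Or.inr (isConj_iff.mpr ⟨g, M.inj (e.trans hbb.symm)⟩)
    · exact Or.inl (isConj_iff.mpr ⟨g, M.inj (e.trans ha.symm)⟩)
  · have := rk hc
    rw [ha, hbb, rkA, rkB] at this
    omega
  · rw [eq_top_iff]
    intro g _
    obtain ⟨x, hx, e⟩ := Γ_le h hA (X := X.map M.f) (fun i => ⟨n i, hX _ (n2 i), hn i⟩)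
      (fun i => by
        fin_cases i
        · exact ⟨a, hX _ a2, ha⟩
        · exact ⟨b, hbX, hb⟩
        · exact ⟨b, hbX, hb⟩
        · exact ⟨a, hX _ a2, ha⟩) (M.mem g)
    exact M.inj e ▸ hx
  · have hU : Nat.card (hE.grp.U.comap M.f) = 2 ^ 12 := by
      rw [← Subgroup.card_map_of_injective M.inj, Subgroup.map_comap_eq, M.range, inf_comm]
      exact h.card_U
    let P : Sylow 2 (twistedF4 (ZMod 2) 1) := Sylow.ofCard (hE.grp.U.comap M.f) (by
      rw [hU, hcard]; congr 1; decide +kernel)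
    have h1 : b ∈ P.focalSubgroup := by
      rw [← Subgroup.commutator_inf_eq_focalSubgroup]
      exact ⟨hc, show M.f b ∈ hE.grp.U from hb ▸ (b_mem_U h hA).1⟩
    refine b_not_mem h hA (hb ▸ (Subgroup.closure_le ((Cl hE _).comap M.f)).mpr ?_ h1)
    rintro _ ⟨h2, x, hx, u, rfl⟩
    have hx' : M.f x ∈ hE.grp.U ⊓ T.Γ := ⟨hx, M.mem x⟩
    have e : M.f ⁅x, u⁆ = M.f x * (M.f u * (M.f x)⁻¹ * (M.f u)⁻¹) := by
      simp only [commutatorElement_def, map_mul, map_inv, mul_assoc]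
    have h3 : M.f u * (M.f x)⁻¹ * (M.f u)⁻¹ ∈ hE.grp.U :=
      (Subgroup.mul_mem_cancel_left _ hx'.1).mp (e ▸ h2)
    obtain ⟨p1, p2⟩ := tabOK_F4.pcStep hE pc_top
    change M.f _ ∈ Cl hE _
    rw [e, parity p1 p2 (b_not_mem h hA) (U_par h hA _ hx') (U_par h hA _ ⟨h3,
      T.Γ.mul_mem (T.Γ.mul_mem (M.mem u) (T.Γ.inv_mem hx'.2)) (T.Γ.inv_mem (M.mem u))⟩),
      fusion h hA (M.mem u) (Subgroup.inv_mem _ hx') h3, Subgroup.inv_mem_iff]
  · simp only [map_mul, map_inv]
    rw [hn, ha, hb, ← w1_conj hE (n_sq h hA 0), ← w1_append, ← w1_append]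
    exact eq _ _ (by decide +kernel)
  · rcases H13.BN.le_or_sup_eq_top (M.bnPair_irreducible h.good (R.connected (by simp))) N with
      h1 | h1
    · exact absurd (le_bot_iff.mp (M.normalCore_eq_bot h.good h.h3 h.hz ▸
        Subgroup.normal_le_normalCore.mpr h1)) hN
    · have := M.B_isSolvable h.h3
      refine Group.isSolvable_of_surjective
        (f := (QuotientGroup.mk' N).comp (hE.grp.B.comap M.f).subtype) fun x => ?_
      obtain ⟨g, rfl⟩ := QuotientGroup.mk_surjective x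
      obtain ⟨b, hb, k, hk, rfl⟩ := Subgroup.mem_sup_of_normal_right.1 (h1 ▸ Subgroup.mem_top g)
      exact ⟨⟨b, hb⟩, by simp [(QuotientGroup.eq_one_iff k).2 hk]⟩

end H39
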