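import Mathlib
import Cfsg.Agent.Lib.Twist.MultC
import Cfsg.Agent.Lib.Twist.D4

/-!
# Central extensions of the twisted group of type `³D₄`
-/

set_option autoImplicit false
set_option linter.unusedSectionVars false

open scoped commutatorElement

namespace H39

open H38 H63.St

/-- The roots of type `D₄`. -/
def rlD4 : List (Fin 4 → ℤ) :=
  [![0, 0, 0, 1], ![0, 0, 1, 0], ![0, 1, 0, 0], ![1, 0, 0, 0], ![-1, 0, 0, 0], ![0, -1, 0, 0],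
   ![0, 0, -1, 0], ![0, 0, 0, -1], ![0, 1, 0, 1], ![0, 1, 1, 0], ![1, 1, 0, 0], ![-1, -1, 0, 0],
   ![0, -1, -1, 0], ![0, -1, 0, -1], ![0, 1, 1, 1], ![1, 1, 0, 1], ![1, 1, 1, 0], ![-1, -1, -1, 0],
   ![-1, -1, 0, -1], ![0, -1, -1, -1], ![1, 1, 1, 1], ![-1, -1, -1, -1], ![1, 2, 1, 1],
   ![-1, -2, -1, -1]]

/-- The Cartan matrix of type `D₄`. -/
def aD4 (i j : Fin 4) : ℤ := matF 4 alD4 j i

/-- Representatives of the orbits of the nodes. -/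
def gD4 : Fin 2 → Fin 4 := ![1, 0]

/-- Separating cocharacters. -/
def candD4 : Fin 2 → List (Fin 4 → ℤ) :=
  ![[![0, 1, 1, 1], ![1, 1, 0, 1], ![1, 1, 1, 0]], [![1, 2, 1, 1], ![1, 0, 0, 0]]]

/-- The pairings with the three conjugates of a cocharacter. -/
def triD4 (a x : Fin 4 → ℤ) : ℤ × ℤ × ℤ :=
  (pr aD4 a x, pr aD4 (fun i => a (rho3D4 (rho3D4 i))) x, pr aD4 (fun i => a (rho3D4 i)) x)

/-- Small and not all zero. -/
def Ok3 (a : ℤ × ℤ × ℤ) : Prop := a ≠ 0 ∧ |a.1| ≤ 2 ∧ |a.2.1| ≤ 1 ∧ |a.2.2| ≤ 1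

instance (a : ℤ × ℤ × ℤ) : Decidable (Ok3 a) := by unfold Ok3; infer_instance

theorem rlD4_closed : ∀ i, ∀ x ∈ rlD4,
    (fun j => if j = i then x i - ∑ k, x k * aD4 i k else x j) ∈ rlD4 := by decide +kernel

theorem sepD4 : ∀ k, ∀ x ∈ rlD4, (∀ j ∈ orbD4 (gD4 k), x ≠ Pi.single j 1 ∧ x ≠ -Pi.single j 1) →
    ∃ a ∈ candD4 k, triD4 a (Pi.single (gD4 k) 1) = 0 ∧ Ok3 (triD4 a x) ∨
      triD4 a x = 0 ∧ Ok3 (triD4 a (Pi.single (gD4 k) 1)) := by decide +kernel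

theorem regD4 : ∀ k, ∃ a ∈ [![0, 1, 1, 0], ![1, 0, 0, 0]], Ok3 (triD4 a (Pi.single (gD4 k) 1)) := by
  decide +kernel

theorem Ok3.not_dvd {a : ℤ × ℤ × ℤ} {q : ℤ} (h : Ok3 a) (hq : 3 ≤ q) :
    ¬ q ^ 3 - 1 ∣ a.1 + q * (a.2.1 + q * a.2.2) := fun e => by
  obtain ⟨a, b, c⟩ := a
  obtain ⟨h0, h1, h2, h3⟩ := h
  simp only [abs_le] at h1 h2 h3 e
  have h4 : -(1 + q) ≤ b + q * c ∧ b + q * c ≤ 1 + q := ⟨by nlinarith, by nlinarith⟩
  have h8 : 3 * q ^ 2 ≤ q ^ 3 := by nlinarith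
  have h9 := mul_le_mul_of_nonneg_left h4.1 (by omega : 0 ≤ q)
  have h10 := mul_le_mul_of_nonneg_left h4.2 (by omega : 0 ≤ q)
  have h5 : a + q * (b + q * c) = 0 :=
    Int.eq_zero_of_abs_lt_dvd e (abs_lt.2 ⟨by nlinarith, by nlinarith⟩)
  have h6 : b + q * c = 0 := by
    by_contra hb
    rcases lt_or_gt_of_ne hb with h | h <;> nlinarith
  have h7 : c = 0 := by
    by_contra hb
    rcases lt_or_gt_of_ne hb with h | h <;> nlinarith
  rw [h6] at h5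
  rw [h7] at h6
  exact h0 (Prod.ext (by simpa using h5) (Prod.ext (by simpa using h6) h7))

variable {ι : Type} [Finite ι] {R : RS ι (Fin 4)} {K : Type*} [Field K] [Fintype K]
  {G : Type*} [Group G] {E : Elts R K G}

namespace IsD4

open Tw RTw

variable {T : Tw E} {q : ℕ} (h : IsD4 T q)
include h

theorem hg (i : Fin 4) : ∃ k, i ∈ T.S.orb (gD4 k) := by
  simp only [← (h.orth _).mem]
  revert i; decide

theorem rt_mem (r : ι) : R.rt r ∈ rlD4 := rt_mem_list h.hA _ (by decide +kernel) rlD4_closed r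

theorem exists_c : ∃ v : Kˣ, (∀ n : ℤ, v ^ n = 1 ↔ (q : ℤ) ^ 3 - 1 ∣ n) ∧ ∀ a : Fin 4 → ℤ, ∃ c ∈ T.T1,
    ∀ r, chi R c r = v ^ ((triD4 a (R.rt r)).1 + q * ((triD4 a (R.rt r)).2.1 +
      q * (triD4 a (R.rt r)).2.2)) := by
  obtain ⟨v, hv⟩ := exists_gen K
  rw [h.hK, Nat.cast_pow] at hv
  refine ⟨v, hv, fun a => ⟨fun i => v ^ (a i + q * (a (rho3D4 (rho3D4 i)) + q * a (rho3D4 i))),
    T.mem_T1.2 fun j => ?_, fun r => by rw [chi_zpow' h.hA, pr_add, pr_add]; rfl⟩⟩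
  rw [h.hφ, h.hρ, ← Units.val_pow_eq_pow_val, ← zpow_natCast, ← zpow_mul, Units.val_inj,
    ← mul_inv_eq_one, ← zpow_sub, hv, show rho3D4 (rho3D4 (rho3D4 j)) = j by revert j; decide]
  exact ⟨-a (rho3D4 j), by ring⟩

theorem tsep (h2 : q ≠ 2) (k : Fin 2) (B : T.S.Cl) (h1 : B ≠ T.S.cs (gD4 k))
    (h3 : B ≠ (T.S.cs (gD4 k)).neg) :
    TSep T.X (T.S.cs (gD4 k)) B ∨ TSep T.X B (T.S.cs (gD4 k)) := by
  obtain ⟨v, hv, hc⟩ := h.exists_c
  obtain ⟨r, hr⟩ := B.nonempty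
  obtain ⟨a, -, ha⟩ := sepD4 k _ (h.rt_mem r) (not_mem_of_ne h.orth h1 h3 hr)
  obtain ⟨c, hc, e⟩ := hc a
  have hq : (3 : ℤ) ≤ q := by have := h.two_le; omega
  have hs := T.S.sim_mem_PJ (T.S.mem_orb_self (gD4 k))
  rw [← R.rt_sim] at ha
  exact ha.imp (fun a => tsep_of_orth h.h3 h.orth hc hs hr (by rw [e, a.1]; simp)
    (by rw [e, Ne, hv]; exact a.2.not_dvd hq)) fun a => tsep_of_orth h.h3 h.orth hc hr hs
    (by rw [e, a.1]; simp) (by rw [e, Ne, hv]; exact a.2.not_dvd hq)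

theorem reg (h2 : q ≠ 2) (k : Fin 2) : ∃ t ∈ torus T.X, Fpf t (T.X (T.S.cs (gD4 k))) := by
  obtain ⟨v, hv, hc⟩ := h.exists_c
  obtain ⟨a, -, hj⟩ := regD4 k
  obtain ⟨c, hc, e⟩ := hc a
  refine ⟨_, tt_mem h.h3 hc, fpf_tt h.h3 hc fun r hr e' => ?_⟩
  rw [chi_iff h.h3 h.orth hc hr (T.S.sim_mem_PJ (T.S.mem_orb_self _)), e, hv, R.rt_sim] at e'
  exact hj.not_dvd (by have := h.two_le; omega) e'

theorem par0 : T.Par 0 [0, 2, 3] fun j => if j = 0 then RingHom.id K else if j = 2 then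
    (T.φ 0 : K →+* K) else (T.φ 2 : K →+* K).comp (T.φ 0 : K →+* K) :=
  par3 (h.orth 0) (by rw [h.hρ]; rfl) (by rw [h.hρ]; rfl) (by rw [h.hρ]; rfl)
    fun t => by rw [h.hφ, h.hφ, h.hφ, h.pow_pow]

theorem card_FF (a : Fin 4) : Nat.card (T.FF a) = q := by
  rw [← card_fixed (K := K) (by have := h.two_le; omega) h.hK]
  exact Nat.card_congr (Equiv.subtypeEquivRight fun t => by rw [← h.hφ a]; rfl)

theorem exists_scalar (a : Kˣ) : ∃ c ∈ T.T1, ψ R K c 0 = a ∧ ψ R K c 2 = a ^ q ∧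
    ψ R K c 3 = (a ^ q) ^ q := by
  obtain ⟨m, hm⟩ := Nat.even_mul_succ_self q
  have e0 : ((a ^ q) ^ q) ^ q = a := Units.ext (h.pow_pow (a : K))
  have e1 : (a * a ^ q * (a ^ q) ^ q) ^ q = a * a ^ q * (a ^ q) ^ q := by
    rw [mul_pow, mul_pow, e0, mul_rotate a]
  have e2 : (a ^ (m + 1)) ^ 2 = a * (a * a ^ q * (a ^ q) ^ q) := by
    rw [← pow_mul, ← pow_mul, ← pow_succ', ← pow_add, ← pow_succ']
    congr 1; nlinarith
  generalize a * a ^ q * (a ^ q) ^ q = n at e1 e2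
  generalize a ^ (m + 1) = b at e2
  refine ⟨![b, n, b ^ q, (b ^ q) ^ q], h.mem_T1.2 ⟨congrArg Units.val e1, rfl, rfl⟩, ?_⟩
  simp [h.ψ_eq, pow_right_comm _ q 2, e2, mul_pow, e1]

variable {Γ : Type*} [Group Γ] {π : Γ →* T.Γ} (hπ : CE π)

theorem ct0 : hπ.CT T.X (T.S.cs 0) (T.S.cs 0) := by
  refine h.par0.ct hπ h.h3 (by
    rw [Nat.card_eq_fintype_card, h.hK]
    exact lt_of_lt_of_le (by norm_num) (Nat.pow_le_pow_left h.two_le 3)) fun a ha => ?_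
  obtain ⟨c, hc, e⟩ := h.exists_scalar (Units.mk0 a ha)
  exact ⟨c, hc, by simp [e, h.hφ]⟩

theorem pair_eq (r s : ι) : R.pair r s = pr aD4 (R.rt r) (R.rt s) := by
  have : ∀ i, R.cor r i = R.rt r i := fun i => mul_left_cancel₀ (R.len_ne r) (by
    rw [R.len_cor, h.len_eq r, mul_comm])
  simp only [R.pair_eq_sum, this, pr, RS.wt, RS.wtv, h.hA, aD4]

theorem rt_s (i : Fin 4) (r : ι) : R.rt (R.s i r) =
    fun j => if j = i then R.rt r i - ∑ k, R.rt r k * aD4 i k else R.rt r j := by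
  funext j
  rw [R.s_apply]
  split_ifs with e
  · rw [e, R.rt_σ_self, RS.wt, RS.wtv]; simp only [h.hA, aD4]
  · exact R.rt_σ_ne i r e

theorem wo0 (r : ι) : T.S.wo 0 r = R.s 0 (R.s 2 (R.s 3 r)) := by rw [(h.orth 0).wo_eq]; rfl

theorem wo1 (r : ι) : T.S.wo 1 r = R.s 1 r := by rw [(h.orth 1).wo_eq]; rfl

theorem ct1 : hπ.CT T.X (T.S.cs 1) (T.S.cs 1) :=
  ct_fixed hπ h.good h.len_eq (h.orth 1) (h.orth 1) (T.S.wo1 0) (by
    change R.pair _ (T.S.wo 0 _) = _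
    simp only [h.pair_eq, h.wo0, h.rt_s, R.rt_sim]
    decide +kernel)

variable [Finite G] (p : ℕ) [Fact p.Prime] [CharP K p]
include hπ

/-- The `p`-part of the multiplier of `³D₄(q)`, `q > 2`. -/
theorem kerPP (h2 : q ≠ 2) (hs : π.ker ≤ commutator Γ) : KerPP π p := by
  obtain ⟨Y, hY⟩ := exists_tlift_of_ct hπ (E := (h.good.rgd h.hg).toPre)
    (h.good.torus_comm h.hg h.G1_eq h.h3) (fun k => by fin_cases k; exacts [h.ct1 hπ, h.ct0 hπ])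
    (h.reg h2)
  exact (hY.goodLift (tsep_of_simple (h.tsep h2))).kerPP
    (h.good.faith h.hg) (h.good.Gp_eq h.hg h.G1_eq) (h.good.isPGroup_X p)
    (h.good.H0_eq h.hg h.G1_eq ▸ not_dvd_card_H1 h.h3 p) hs

/-- The `p'`-part of the multiplier of `³D₄(q)`. -/
theorem ker_eq_bot (hk : KerPP π p) (hs : π.ker ≤ commutator Γ) : π.ker = ⊥ := by
  have hK : Nat.card K = q ^ 3 := by rw [Nat.card_eq_fintype_card, h.hK]
  have := hπ.card_ker_mul_dvd hk (h.good.isPGroup_X p) (h.good.faith h.hg)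
    (h.good.Gp_eq h.hg h.G1_eq) hs ![q - 1, q ^ 3 - 1] fun k => by
      fin_cases k
      · exact (hπ.card_T_lift_dvd hk _ (h.good.faith h.hg)
          (Par.node h.hg h.good (k := 0) (par1 (h.orth 1)))).trans (by rw [h.card_FF]; rfl)
      · exact (hπ.card_T_lift_dvd hk _ (h.good.faith h.hg)
          (Par.node h.hg h.good (k := 1) h.par0)).trans (by rw [hK]; rfl)
  rw [h.good.H0_eq h.hg h.G1_eq, card_H1, Fin.prod_univ_two] at this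
  refine Subgroup.eq_bot_of_card_eq _ (Nat.dvd_one.1
    (Nat.dvd_of_mul_dvd_mul_right (Nat.card_pos (α := ↥(E.H ⊓ T.Γ))) ?_))
  rw [one_mul]
  exact this.trans (by rw [h.card_H, mul_comm]; rfl)

end IsD4

end H39
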