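import Mathlib
import Cfsg.Agent.Lib.Twist.MultD4
import Cfsg.Agent.Lib.Twist.F4

/-!
# The Sylow 2-subgroup of `³D₄(2)` in coordinates
-/

set_option autoImplicit false
set_option linter.unusedSectionVars false

open scoped commutatorElement

namespace H39

open H38 H63.St

/-- The positive roots of type `D₄`. -/
def vtD4 : Fin 12 → Fin 4 → ℤ :=
  ![![1, 2, 1, 1], ![1, 1, 1, 1], ![0, 1, 1, 1], ![1, 1, 0, 1], ![1, 1, 1, 0], ![1, 1, 0, 0],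
    ![0, 1, 1, 0], ![0, 1, 0, 1], ![1, 0, 0, 0], ![0, 0, 1, 0], ![0, 0, 0, 1], ![0, 1, 0, 0]]

/-- The exponents of the torus characters. -/
def exD4 : Fin 12 → ℕ := ![0, 0, 6, 5, 3, 1, 2, 4, 1, 2, 4, 0]

variable {ι : Type} [Finite ι] {R : RS ι (Fin 4)} {K : Type*} [Field K] [Fintype K] [CharP K 2]
  {G : Type*} [Group G] {E : Elts R K G} {T : Tw E}

/-- The positive roots. -/
noncomputable def rD4 (T : Tw E) : Fin 12 → ι :=
  ![T.S.wo 1 (T.S.wo 0 (R.sim 1)), T.S.wo 0 (R.sim 1), T.S.wo 0 (T.S.wo 1 (R.sim 0)),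
    T.S.wo 0 (T.S.wo 1 (R.sim 2)), T.S.wo 0 (T.S.wo 1 (R.sim 3)), T.S.wo 1 (R.sim 0),
    T.S.wo 1 (R.sim 2), T.S.wo 1 (R.sim 3), R.sim 0, R.sim 2, R.sim 3, R.sim 1]

/-- The positive root elements. -/
noncomputable def yD4 (T : Tw E) (i : Fin 12) (t : K) : G := E.x (rD4 T i) t

/-- The subgroup generated by some positive root subgroups. -/
def XL (T : Tw E) (S : List (Fin 12)) : Subgroup G := E.XS (rD4 T '' {i | i ∈ S})

theorem y_mem {S : List (Fin 12)} {i : Fin 12} (hi : i ∈ S) (t : K) : yD4 T i t ∈ XL T S :=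
  E.x_mem_XS (S := rD4 T '' {i | i ∈ S}) ⟨i, hi, rfl⟩ t

theorem y_add (i : Fin 12) (t u : K) (z : G) : yD4 T i t * (yD4 T i u * z) = yD4 T i (t + u) * z := by
  rw [← mul_assoc, yD4, yD4, E.x_add, yD4]

theorem list_n_conj (L : List (Fin 4)) (r : ι) (t : K) :
    (L.map fun j => E.n (R.sim j) 1).prod * E.x r t * (L.map fun j => E.n (R.sim j) 1).prod⁻¹ =
      E.x ((L.map R.s).prod r) t := by
  induction L with
  | nil => simp
  | cons a L ih =>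
    simp only [List.map_cons, List.prod_cons, Equiv.Perm.mul_apply]
    rw [RS.s, ← nconj_char_two, ← ih]; group

namespace IsD4

open Tw RTw RTw.Cl

variable (h : IsD4 T 2)
include h

theorem rt_r (i : Fin 12) : R.rt (rD4 T i) = vtD4 i := by
  fin_cases i <;> simp only [rD4, Fin.reduceFinMk, Matrix.cons_val, h.wo0, h.wo1, h.rt_s, R.rt_sim] <;>
    decide +kernel

theorem y_comm {i j : Fin 12} (hp : 0 ≤ pr aD4 (vtD4 i) (vtD4 j)) (t u : K) :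
    Commute (yD4 T i t) (yD4 T j u) :=
  commute_x h.len_eq E (by rwa [h.pair_eq, h.rt_r, h.rt_r]) t u

theorem y_sw {i j : Fin 12} (hp : j < i ∧ 0 ≤ pr aD4 (vtD4 i) (vtD4 j)) (t u : K) (z : G) :
    yD4 T i t * (yD4 T j u * z) = yD4 T j u * (yD4 T i t * z) := (h.y_comm hp.2 t u).left_comm z

theorem y_nsw (i j k : Fin 12) (hp : pr aD4 (vtD4 i) (vtD4 j) = -1 ∧ vtD4 k = vtD4 i + vtD4 j)
    (t u : K) (z : G) :
    yD4 T i t * (yD4 T j u * z) = yD4 T k (t * u) * (yD4 T j u * (yD4 T i t * z)) := by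
  have h1 : R.pair (rD4 T i) (rD4 T j) = -1 := by rw [h.pair_eq, h.rt_r, h.rt_r, hp.1]
  have h2 := comm_x h.len_eq T.hF h1 t u
  rw [show R.refl (rD4 T i) (rD4 T j) = rD4 T k from R.rt_inj (by
    rw [R.rt_refl, h1, h.rt_r, h.rt_r, h.rt_r, hp.2]; module), show (E.η (rD4 T i) (rD4 T j) : K) = 1 by
      rcases E.η_sign (rD4 T i) (rD4 T j) with e | e <;> simp [e, CharTwo.neg_eq], one_mul] at h2
  rw [yD4, yD4, yD4, ← h2, commutatorElement_def]; group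

theorem comm_XL {S S' : List (Fin 12)} (hp : ∀ i ∈ S, ∀ j ∈ S', 0 ≤ pr aD4 (vtD4 i) (vtD4 j))
    {x y : G} (hx : x ∈ XL T S) (hy : y ∈ XL T S') : Commute x y := by
  refine E.XS_induction (P := fun x => Commute x y) hx ?_ (Commute.one_left _)
    fun _ _ _ _ => Commute.mul_left
  rintro _ ⟨i, hi, rfl⟩ t
  refine E.XS_induction (P := fun y => Commute _ y) hy ?_ (Commute.one_right _)
    fun _ _ _ _ => Commute.mul_right
  rintro _ ⟨j, hj, rfl⟩ u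
  exact h.y_comm (hp i hi j hj) t u

theorem ae (a b c a' b' c' : K) : ⁅yD4 T 8 a * (yD4 T 9 b * yD4 T 10 c),
    yD4 T 2 a' * (yD4 T 3 b' * yD4 T 4 c')⁆ = yD4 T 1 (a * a' + b * b' + c * c') := by
  rw [commutatorElement_def, mul_inv_eq_iff_eq_mul, mul_inv_eq_iff_eq_mul, ← mul_left_inj 1]
  simp (disch := decide +kernel) only [mul_assoc, h.y_sw, y_add, h.y_nsw 8 2 1 (by decide +kernel),
    h.y_nsw 9 3 1 (by decide +kernel), h.y_nsw 10 4 1 (by decide +kernel)]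
  congr 2; ring

theorem ad (a b c a' b' c' : K) : ⁅yD4 T 8 a * (yD4 T 9 b * yD4 T 10 c),
    yD4 T 5 a' * (yD4 T 6 b' * yD4 T 7 c')⁆ = yD4 T 0 (a' * (c * b') + (b' * (a * c') + a' * (b * c'))) *
      (yD4 T 1 (b * (c * a') + a * (c * b') + a * (b * c')) * (yD4 T 2 (c * b' + b * c') *
      (yD4 T 3 (c * a' + a * c') * yD4 T 4 (b * a' + a * b')))) := by
  rw [commutatorElement_def, mul_inv_eq_iff_eq_mul, mul_inv_eq_iff_eq_mul, ← mul_left_inj 1]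
  simp (disch := decide +kernel) only [mul_assoc, h.y_sw, y_add, h.y_nsw 8 2 1 (by decide +kernel),
    h.y_nsw 9 3 1 (by decide +kernel), h.y_nsw 5 2 0 (by decide +kernel),
    h.y_nsw 6 3 0 (by decide +kernel), h.y_nsw 8 6 4 (by decide +kernel),
    h.y_nsw 8 7 3 (by decide +kernel), h.y_nsw 9 5 4 (by decide +kernel),
    h.y_nsw 9 7 2 (by decide +kernel), h.y_nsw 10 5 3 (by decide +kernel),
    h.y_nsw 10 6 2 (by decide +kernel)]

theorem ba (a b c : K) : ⁅yD4 T 11 1, yD4 T 8 a * (yD4 T 9 b * yD4 T 10 c)⁆ =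
    yD4 T 0 (b * (a * c) + a * (b * c)) * (yD4 T 1 (a * (b * c)) * ((yD4 T 2 (b * c) *
      (yD4 T 3 (a * c) * yD4 T 4 (a * b))) * (yD4 T 5 a * (yD4 T 6 b * yD4 T 7 c)))) := by
  rw [commutatorElement_def, mul_inv_eq_iff_eq_mul, mul_inv_eq_iff_eq_mul, ← mul_left_inj 1]
  simp (disch := decide +kernel) only [mul_assoc, one_mul, h.y_sw, y_add,
    h.y_nsw 8 2 1 (by decide +kernel), h.y_nsw 11 8 5 (by decide +kernel),
    h.y_nsw 11 9 6 (by decide +kernel), h.y_nsw 11 10 7 (by decide +kernel),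
    h.y_nsw 5 2 0 (by decide +kernel), h.y_nsw 6 3 0 (by decide +kernel),
    h.y_nsw 8 6 4 (by decide +kernel), h.y_nsw 8 7 3 (by decide +kernel),
    h.y_nsw 9 7 2 (by decide +kernel)]

theorem pow_eight (t : K) : t ^ 8 = t := by
  have := FiniteField.pow_card t
  rwa [h.hK] at this

/-- Representatives of the generators of the relative Weyl group. -/
noncomputable def nn (i : Fin 4) : T.Γ := ⟨((orbD4 i).map fun j => E.n (R.sim j) 1).prod,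
  T.G1_le_Γ (orth_n_mem (h.orth i) (c := fun _ => 1) fun _ _ => (map_one _).symm)⟩

theorem nn_conj (i : Fin 4) (r : ι) (t : K) :
    (h.nn i : G) * E.x r t * (h.nn i : G)⁻¹ = E.x (T.S.wo i r) t := by
  rw [(h.orth i).wo_eq]; exact list_n_conj _ r t

theorem nn_acts (i : Fin 4) : Acts T.X (h.nn i) (MulAction.toPerm (T.S.wo1 i)) :=
  acts_of_rep (w := T.S.wo1 i) (by
    change E.Rep _ (T.S.wo i)
    rw [(h.orth i).wo_eq]; exact E.rep_list _)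

theorem nn_conj3 (i : Fin 4) (r s k : ι) (a b c : K) :
    (h.nn i : G) * (E.x r a * (E.x s b * E.x k c)) * (h.nn i : G)⁻¹ =
      E.x (T.S.wo i r) a * (E.x (T.S.wo i s) b * E.x (T.S.wo i k) c) := by
  rw [← h.nn_conj, ← h.nn_conj, ← h.nn_conj]; group

/-- The short fundamental root group. -/
noncomputable def xa (t : K) : T.Γ := h.par0.xx pmP t
/-- The second short root group. -/
noncomputable def xd (t : K) : T.Γ := h.nn 1 * h.xa t * (h.nn 1)⁻¹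
/-- The third short root group. -/
noncomputable def xe (t : K) : T.Γ := h.nn 0 * h.xd t * (h.nn 0)⁻¹
/-- The long fundamental root element. -/
noncomputable def xb : T.Γ := ⟨E.x (R.sim 1) 1, ((h.mem1 pmP).2 ⟨1, one_pow 2, rfl⟩).2⟩
/-- The second long root group. -/
noncomputable def xF (w : K) : T.Γ := ⁅h.xa 1, h.xe w⁆
/-- The third long root group. -/
noncomputable def xG (w : K) : T.Γ := h.nn 1 * h.xF w * (h.nn 1)⁻¹

theorem xa_val (t : K) : (h.xa t : G) = yD4 T 8 t * (yD4 T 9 (t ^ 2) * yD4 T 10 (t ^ 4)) := by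
  simp [xa, Par.xx, h.hφ, yD4, rD4, ← pow_mul]

theorem xd_val (t : K) : (h.xd t : G) = yD4 T 5 t * (yD4 T 6 (t ^ 2) * yD4 T 7 (t ^ 4)) := by
  rw [xd, Subgroup.coe_mul, Subgroup.coe_mul, xa_val]; exact h.nn_conj3 _ _ _ _ _ _ _

theorem xe_val (t : K) : (h.xe t : G) = yD4 T 2 t * (yD4 T 3 (t ^ 2) * yD4 T 4 (t ^ 4)) := by
  rw [xe, Subgroup.coe_mul, Subgroup.coe_mul, xd_val]; exact h.nn_conj3 _ _ _ _ _ _ _

theorem xb_val : (h.xb : G) = yD4 T 11 1 := rfl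

theorem comm_ae (u v : K) : ((⁅h.xa u, h.xe v⁆ : T.Γ) : G) =
    yD4 T 1 (u * v + (u * v) ^ 2 + (u * v) ^ 4) := by
  rw [← Subgroup.subtype_apply, map_commutatorElement, mul_pow, mul_pow, ← h.ae, ← h.xa_val, ← h.xe_val]
  rfl

theorem xF_val (w : K) : (h.xF w : G) = yD4 T 1 (w + w ^ 2 + w ^ 4) := by
  rw [xF, comm_ae, one_mul]

theorem xG_val (w : K) : (h.xG w : G) = yD4 T 0 (w + w ^ 2 + w ^ 4) := by
  rw [xG, Subgroup.coe_mul, Subgroup.coe_mul, xF_val]; exact h.nn_conj _ _ _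

theorem comm_ae' (u v : K) : ⁅h.xa u, h.xe v⁆ = h.xF (u * v) :=
  Subtype.ext (by rw [comm_ae, xF_val])

theorem comm_ad (s t : K) : ⁅h.xa s, h.xd t⁆ =
    h.xG (s * t ^ 6) * (h.xF (s ^ 6 * t) * h.xe (s ^ 4 * t ^ 2 + s ^ 2 * t ^ 4)) := by
  refine Subtype.ext ?_
  have hs := h.pow_eight s
  have ht := h.pow_eight t
  rw [← Subgroup.subtype_apply, map_commutatorElement, Subgroup.subtype_apply, Subgroup.subtype_apply,
    xa_val, xd_val, h.ad, Subgroup.coe_mul, Subgroup.coe_mul, xG_val, xF_val, xe_val,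
    show (s ^ 4 * t ^ 2 + s ^ 2 * t ^ 4) ^ 4 = ((s ^ 4 * t ^ 2 + s ^ 2 * t ^ 4) ^ 2) ^ 2 by ring,
    CharTwo.add_sq, CharTwo.add_sq]
  congr 2
  · linear_combination (-s ^ 2 * t ^ 4 - s ^ 4 * (t ^ 16 + t ^ 9 + t ^ 2)) * ht
  · congr 1
    linear_combination (-s ^ 4 * t ^ 2 - t ^ 4 * (s ^ 16 + s ^ 9 + s ^ 2)) * hs
  · congr 3
    · linear_combination (-t ^ 4) * hs - s ^ 4 * ht
    · linear_combination (-t ^ 8 * (s ^ 8 + s) - t ^ 16) * hs - (s ^ 2 + s * (t ^ 8 + t)) * ht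

theorem comm_ba (s : K) : ⁅h.xb, h.xa s⁆ = h.xF (s ^ 7) * (h.xe (s ^ 6) * h.xd s) := by
  refine Subtype.ext ?_
  have hs := h.pow_eight s
  have h2 : (2 : K) = 0 := CharTwo.two_eq_zero
  rw [← Subgroup.subtype_apply, map_commutatorElement, Subgroup.subtype_apply, Subgroup.subtype_apply,
    xa_val, xb_val, h.ba, Subgroup.coe_mul, Subgroup.coe_mul, xd_val, xF_val, xe_val,
    show s ^ 2 * (s * s ^ 4) + s * (s ^ 2 * s ^ 4) = 0 by linear_combination s ^ 7 * h2, yD4, E.x_zero,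
    one_mul]
  congr 2
  · linear_combination (-s ^ 6 - s ^ 20 - s ^ 13 - s ^ 6) * hs - s ^ 7 * h2
  · congr 2
    · ring
    · congr 1; linear_combination (-s ^ 4) * hs
    · congr 1; linear_combination (-s ^ 16 - s ^ 9 - s ^ 2) * hs

theorem comm_bF (w : K) : ⁅h.xb, h.xF w⁆ = h.xG w := by
  refine Subtype.ext ?_
  rw [← Subgroup.subtype_apply, map_commutatorElement, Subgroup.subtype_apply, Subgroup.subtype_apply,
    xb_val, xF_val, xG_val, commutatorElement_def, mul_inv_eq_iff_eq_mul, mul_inv_eq_iff_eq_mul]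
  simpa [mul_assoc] using h.y_nsw 11 1 0 (by decide +kernel) 1 (w + w ^ 2 + w ^ 4) 1

theorem nn_xe (v : K) : h.nn 1 * h.xe v * (h.nn 1)⁻¹ = h.xe v := by
  refine Subtype.ext ?_
  have e : ∀ i ∈ [2, 3, 4], T.S.wo 1 (rD4 T i) = rD4 T i := fun i hi => R.rt_inj (by
    rw [h.wo1, h.rt_s, h.rt_r]; revert i; decide +kernel)
  rw [Subgroup.coe_mul, Subgroup.coe_mul, xe_val, yD4, yD4, yD4, Subgroup.coe_inv, h.nn_conj3,
    e 2 (by simp), e 3 (by simp), e 4 (by simp)]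

theorem comm_de (u v : K) : ⁅h.xd u, h.xe v⁆ = h.xG (u * v) := by
  rw [xG, ← comm_ae', xd, ← h.nn_xe v, commutatorElement_def, commutatorElement_def, h.nn_xe]
  nth_rw 1 2 [← h.nn_xe v]
  group

theorem xa_add (a b : K) : h.xa a * h.xa b = h.xa (a + b) := h.par0.xx_add _ a b

theorem xd_add (a b : K) : h.xd a * h.xd b = h.xd (a + b) := by
  rw [xd, xd, xd, ← xa_add]; group

theorem xe_add (a b : K) : h.xe a * h.xe b = h.xe (a + b) := by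
  rw [xe, xe, xe, ← xd_add]; group

theorem mem_A {x : T.Γ} : x ∈ T.X (T.S.cs 0) ↔ ∃ t, h.xa t = x := h.par0.mem_pos

theorem mem_D {x : T.Γ} : x ∈ T.X (T.S.wo1 1 • T.S.cs 0) ↔ ∃ t, h.xd t = x := by
  refine ⟨fun hx => ?_, fun ⟨t, e⟩ => e ▸ (h.nn_acts 1).conj_mem (h.mem_A.2 ⟨t, rfl⟩)⟩
  obtain ⟨t, e⟩ := h.mem_A.1 ((h.nn_acts 1 _ ((h.nn 1)⁻¹ * x * h.nn 1)).2 (by simpa [mul_assoc] using hx))
  exact ⟨t, by rw [xd, e]; group⟩

theorem mem_E {x : T.Γ} : x ∈ T.X (T.S.wo1 0 • T.S.wo1 1 • T.S.cs 0) ↔ ∃ t, h.xe t = x := by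
  refine ⟨fun hx => ?_, fun ⟨t, e⟩ => e ▸ (h.nn_acts 0).conj_mem (h.mem_D.2 ⟨t, rfl⟩)⟩
  obtain ⟨t, e⟩ := h.mem_D.1 ((h.nn_acts 0 _ ((h.nn 0)⁻¹ * x * h.nn 0)).2 (by simpa [mul_assoc] using hx))
  exact ⟨t, by rw [xe, e]; group⟩

theorem mem_B {x : T.Γ} (hx : x ∈ T.X (T.S.cs 1)) : x = 1 ∨ x = h.xb := by
  obtain ⟨t, ht, e⟩ := (h.mem1 pmP (g := x)).1 ⟨(h.orth 1).PJ_eq ▸ hx, x.2⟩
  rcases eq_zero_or_one_of_sq_eq_self ht with rfl | rfl
  · exact Or.inl (Subtype.ext (e.trans (E.x_zero _)))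
  · exact Or.inr (Subtype.ext e)

theorem xF_one : h.xF 1 = h.nn 0 * h.xb * (h.nn 0)⁻¹ := Subtype.ext (by
  rw [xF_val, one_pow, one_pow, CharTwo.add_self_eq_zero, zero_add]; exact (h.nn_conj 0 _ _).symm)

theorem mem_F {x : T.Γ} (hx : x ∈ T.X (T.S.wo1 0 • T.S.cs 1)) : x = 1 ∨ x = h.xF 1 :=
  (h.mem_B ((h.nn_acts 0 _ ((h.nn 0)⁻¹ * x * h.nn 0)).2 (by simpa [mul_assoc] using hx))).imp
    (fun e => by simpa [mul_assoc, inv_mul_eq_one] using e) fun e => by rw [xF_one, ← e]; group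

theorem mem_G {x : T.Γ} (hx : x ∈ T.X (T.S.wo1 1 • T.S.wo1 0 • T.S.cs 1)) : x = 1 ∨ x = h.xG 1 :=
  (h.mem_F ((h.nn_acts 1 _ ((h.nn 1)⁻¹ * x * h.nn 1)).2 (by simpa [mul_assoc] using hx))).imp
    (fun e => by simpa [mul_assoc, inv_mul_eq_one] using e) fun e => by rw [xG, ← e]; group

theorem U_le {S : Subgroup T.Γ} (ha : ∀ t, h.xa t ∈ S) (hd : ∀ t, h.xd t ∈ S) (he : ∀ t, h.xe t ∈ S)
    (hb : h.xb ∈ S) (hF : h.xF 1 ∈ S) (hG : h.xG 1 ∈ S) : (h.good.rgd h.hg).U ≤ S := by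
  refine XS_le.2 fun A hA x hx => ?_
  obtain ⟨r, hr⟩ := A.nonempty
  obtain ⟨i, hi⟩ := (by decide +kernel : ∀ v ∈ rlD4, (∀ j, 0 ≤ v j) → ∃ i, v = vtD4 i) _ (h.rt_mem r) (hA r hr)
  obtain rfl : r = rD4 T i := R.rt_inj (hi.trans (h.rt_r i).symm)
  have m : ∀ {i j : Fin 4}, j ∈ orbD4 i → R.sim j ∈ (T.S.cs i).1 := fun hj =>
    T.S.sim_mem_PJ (((h.orth _).mem _).1 hj)
  have kA : ∀ j ∈ orbD4 0, R.sim j ∈ A.1 → x ∈ S := fun j hj e => by
    obtain ⟨t, rfl⟩ := h.mem_A.1 (eq_of_mem e (m hj) ▸ hx); exact ha t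
  have kD : ∀ j ∈ orbD4 0, T.S.wo 1 (R.sim j) ∈ A.1 → x ∈ S := fun j hj e => by
    obtain ⟨t, rfl⟩ := h.mem_D.1 (eq_of_mem e (smul_mem (T.S.wo1 1) (m hj)) ▸ hx); exact hd t
  have kE : ∀ j ∈ orbD4 0, T.S.wo 0 (T.S.wo 1 (R.sim j)) ∈ A.1 → x ∈ S := fun j hj e => by
    obtain ⟨t, rfl⟩ := h.mem_E.1 (eq_of_mem e (smul_mem (T.S.wo1 0) (smul_mem (T.S.wo1 1) (m hj))) ▸ hx)
    exact he t
  have m1 : R.sim 1 ∈ (T.S.cs 1).1 := m (by decide)
  fin_cases i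
  · rcases h.mem_G (eq_of_mem hr (smul_mem (T.S.wo1 1) (smul_mem (T.S.wo1 0) m1)) ▸ hx) with rfl | rfl
    exacts [one_mem _, hG]
  · rcases h.mem_F (eq_of_mem hr (smul_mem (T.S.wo1 0) m1) ▸ hx) with rfl | rfl
    exacts [one_mem _, hF]
  exacts [kE 0 (by decide) hr, kE 2 (by decide) hr, kE 3 (by decide) hr, kD 0 (by decide) hr,
    kD 2 (by decide) hr, kD 3 (by decide) hr, kA 0 (by decide) hr, kA 2 (by decide) hr,
    kA 3 (by decide) hr, (h.mem_B (eq_of_mem hr m1 ▸ hx)).elim (fun e : x = 1 => e ▸ one_mem _)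
      fun e : x = h.xb => e ▸ hb]

theorem exists_tor (a : Kˣ) : ∃ t ∈ torus T.X,
    (∀ i u, (t : G) * yD4 T i u * (t : G)⁻¹ = yD4 T i (a ^ exD4 i * u)) ∧ t ^ 7 = 1 ∧
    (a ≠ 1 → Fpf t (T.X (T.S.cs 0)) ∧ Fpf t (T.X (T.S.wo1 1 • T.S.cs 0)) ∧
      Fpf t (T.X (T.S.wo1 0 • T.S.wo1 1 • T.S.cs 0))) := by
  have h7 : a ^ 7 = 1 := by
    have := pow_card_eq_one' (x := a)
    rwa [Nat.card_units, Nat.card_eq_fintype_card, h.hK] at this
  have hc : (fun i => a ^ (![4, 0, 8, 16] : Fin 4 → ℤ) i) ∈ T.T1 :=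
    h.mem_T1.2 (by simp [zpow_ofNat, ← pow_mul])
  have e : ∀ i, chi R (fun i => a ^ (![4, 0, 8, 16] : Fin 4 → ℤ) i) (rD4 T i) = a ^ exD4 i := fun i => by
    obtain ⟨k, hk⟩ := (by decide +kernel : ∀ i, (7 : ℤ) ∣ pr aD4 ![4, 0, 8, 16] (vtD4 i) - exD4 i) i
    rw [chi_zpow' h.hA, h.rt_r, show pr (fun i j => matF 4 alD4 j i) ![4, 0, 8, 16] (vtD4 i) = _ from
      sub_eq_iff_eq_add.1 hk, zpow_add, zpow_mul, zpow_ofNat, h7, one_zpow, one_mul, zpow_natCast]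
  have m0 : R.sim 0 ∈ (T.S.cs 0).1 := T.S.sim_mem_PJ (T.S.mem_orb_self 0)
  refine ⟨_, tt_mem h.h3 hc, fun i u => (Elts.tor_conj_x h.h3 _ _ u).trans (by
    rw [← chi, e, Units.val_pow_eq_pow_val, yD4]), Subtype.ext ?_, fun ha => ⟨?_, ?_, ?_⟩⟩
  · change Elts.tor h.h3 _ ^ 7 = 1
    rw [← map_pow, ← map_one (Elts.tor h.h3)]
    congr 1
    funext i
    rw [Pi.pow_apply, ← zpow_natCast, ← zpow_mul, mul_comm, zpow_mul, zpow_natCast, h7, one_zpow]; rfl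
  · exact fpf_tt h.h3 hc fun r hr e' => ha (by
      simpa [exD4] using (e 8).symm.trans ((chi_iff h.h3 h.orth hc hr m0).1 e'))
  · exact fpf_tt h.h3 hc fun r hr e' => ha (by
      simpa [exD4] using (e 5).symm.trans ((chi_iff h.h3 h.orth hc hr (smul_mem (T.S.wo1 1) m0)).1 e'))
  · refine fpf_tt h.h3 hc fun r hr e' => ha ?_
    have : a ^ 6 = 1 := (e 2).symm.trans ((chi_iff h.h3 h.orth hc hr
      (smul_mem (T.S.wo1 0) (smul_mem (T.S.wo1 1) m0))).1 e')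
    rwa [pow_succ, this, one_mul] at h7

end IsD4

end H39
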