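import Mathlib
import Cfsg.Agent.Lib.Twist.MultC

/-!
# Central extensions of the twisted group of type `²E₆`
-/

set_option autoImplicit false
set_option linter.unusedSectionVars false

open scoped commutatorElement

namespace H39

open H38 H63.St

/-- The roots of type `E₆`. -/
def rlE6 : List (Fin 6 → ℤ) :=
  [![0, 0, 0, 0, 0, 1], ![0, 0, 0, 0, 1, 0], ![0, 0, 0, 1, 0, 0], ![0, 0, 1, 0, 0, 0],
   ![0, 1, 0, 0, 0, 0], ![1, 0, 0, 0, 0, 0], ![-1, 0, 0, 0, 0, 0], ![0, -1, 0, 0, 0, 0],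
   ![0, 0, -1, 0, 0, 0], ![0, 0, 0, -1, 0, 0], ![0, 0, 0, 0, -1, 0], ![0, 0, 0, 0, 0, -1],
   ![0, 0, 0, 0, 1, 1], ![0, 0, 0, 1, 1, 0], ![0, 0, 1, 1, 0, 0], ![0, 1, 0, 1, 0, 0],
   ![1, 0, 1, 0, 0, 0], ![-1, 0, -1, 0, 0, 0], ![0, -1, 0, -1, 0, 0], ![0, 0, -1, -1, 0, 0],
   ![0, 0, 0, -1, -1, 0], ![0, 0, 0, 0, -1, -1], ![0, 0, 0, 1, 1, 1], ![0, 0, 1, 1, 1, 0],
   ![0, 1, 0, 1, 1, 0], ![0, 1, 1, 1, 0, 0], ![1, 0, 1, 1, 0, 0], ![-1, 0, -1, -1, 0, 0],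
   ![0, -1, -1, -1, 0, 0], ![0, -1, 0, -1, -1, 0], ![0, 0, -1, -1, -1, 0], ![0, 0, 0, -1, -1, -1],
   ![0, 0, 1, 1, 1, 1], ![0, 1, 0, 1, 1, 1], ![0, 1, 1, 1, 1, 0], ![1, 0, 1, 1, 1, 0],
   ![1, 1, 1, 1, 0, 0], ![-1, -1, -1, -1, 0, 0], ![-1, 0, -1, -1, -1, 0], ![0, -1, -1, -1, -1, 0],
   ![0, -1, 0, -1, -1, -1], ![0, 0, -1, -1, -1, -1], ![0, 1, 1, 1, 1, 1], ![0, 1, 1, 2, 1, 0],
   ![1, 0, 1, 1, 1, 1], ![1, 1, 1, 1, 1, 0], ![-1, -1, -1, -1, -1, 0], ![-1, 0, -1, -1, -1, -1],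
   ![0, -1, -1, -2, -1, 0], ![0, -1, -1, -1, -1, -1], ![0, 1, 1, 2, 1, 1], ![1, 1, 1, 1, 1, 1],
   ![1, 1, 1, 2, 1, 0], ![-1, -1, -1, -2, -1, 0], ![-1, -1, -1, -1, -1, -1],
   ![0, -1, -1, -2, -1, -1], ![0, 1, 1, 2, 2, 1], ![1, 1, 1, 2, 1, 1], ![1, 1, 2, 2, 1, 0],
   ![-1, -1, -2, -2, -1, 0], ![-1, -1, -1, -2, -1, -1], ![0, -1, -1, -2, -2, -1],
   ![1, 1, 1, 2, 2, 1], ![1, 1, 2, 2, 1, 1], ![-1, -1, -2, -2, -1, -1], ![-1, -1, -1, -2, -2, -1],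
   ![1, 1, 2, 2, 2, 1], ![-1, -1, -2, -2, -2, -1], ![1, 1, 2, 3, 2, 1], ![-1, -1, -2, -3, -2, -1],
   ![1, 2, 2, 3, 2, 1], ![-1, -2, -2, -3, -2, -1]]

/-- The Cartan matrix of type `E₆`. -/
def aE6 (i j : Fin 6) : ℤ := matF 6 alE6 j i

/-- Representatives of the orbits of the nodes. -/
def gE6 : Fin 4 → Fin 6 := ![1, 3, 2, 0]

/-- Separating cocharacters. -/
def candE6 : Fin 4 → List (Fin 6 → ℤ) :=
  ![[![0, 0, 0, 0, 0, 1], ![0, 1, 1, 2, 1, 0], ![0, 0, 0, 0, 1, 0]],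
    [![0, 0, 0, 0, 0, 1], ![0, 0, 1, 1, 1, 0], ![0, 1, 0, 1, 1, 0]],
    [![0, 1, 0, 0, 0, 0], ![1, 0, 1, 1, 1, 1], ![0, 1, 1, 2, 1, 0]],
    [![0, 0, 0, 1, 0, 0], ![0, 1, 0, 0, 0, 0], ![1, 1, 2, 2, 2, 1]]]

/-- Small and not both zero. -/
def Ok2 (a b : ℤ) : Prop := (a ≠ 0 ∨ b ≠ 0) ∧ |a| ≤ 1 ∧ |b| ≤ 1

instance (a b : ℤ) : Decidable (Ok2 a b) := by unfold Ok2; infer_instance

theorem rlE6_closed : ∀ i, ∀ x ∈ rlE6,
    (fun j => if j = i then x i - ∑ k, x k * aE6 i k else x j) ∈ rlE6 := by decide +kernel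

theorem sepE6 : ∀ k, ∀ x ∈ rlE6, (∀ j ∈ orbE6 (gE6 k), x ≠ Pi.single j 1 ∧ x ≠ -Pi.single j 1) →
    ∃ a ∈ candE6 k, pr aE6 a (Pi.single (gE6 k) 1) = 0 ∧
      pr aE6 (fun i => a (rho2E6 i)) (Pi.single (gE6 k) 1) = 0 ∧
      Ok2 (pr aE6 a x) (pr aE6 (fun i => a (rho2E6 i)) x) := by decide +kernel

theorem regE6 : ∀ k, ∃ j : Fin 6, Ok2 (pr aE6 (Pi.single j 1) (Pi.single (gE6 k) 1))
    (pr aE6 (fun i => (Pi.single j 1 : Fin 6 → ℤ) (rho2E6 i)) (Pi.single (gE6 k) 1)) := by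
  decide +kernel

theorem Ok2.not_dvd {a b q : ℤ} (h : Ok2 a b) (hq : 3 ≤ q) : ¬ q ^ 2 - 1 ∣ a + q * b := fun e => by
  obtain ⟨h0, h1, h2⟩ := h
  rw [abs_le] at h1 h2
  have h3 : a + q * b = 0 := Int.eq_zero_of_abs_lt_dvd e (abs_lt.2 ⟨by nlinarith, by nlinarith⟩)
  have : b = 0 := by
    by_contra hb
    rcases lt_or_gt_of_ne hb with h | h <;> nlinarith
  rw [this] at h3
  omega

variable {ι : Type} [Finite ι] {R : RS ι (Fin 6)} {K : Type*} [Field K] [Fintype K]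
  {G : Type*} [Group G] {E : Elts R K G}

namespace IsE6

open Tw RTw

variable {T : Tw E} {q : ℕ} (h : IsE6 T q)
include h

theorem hg (i : Fin 6) : ∃ k, i ∈ T.S.orb (gE6 k) := by
  simp only [← (h.orth _).mem]
  revert i; decide

theorem rt_mem (r : ι) : R.rt r ∈ rlE6 := rt_mem_list h.hA _ (by decide +kernel) rlE6_closed r

theorem exists_c : ∃ v : Kˣ, (∀ n : ℤ, v ^ n = 1 ↔ (q : ℤ) ^ 2 - 1 ∣ n) ∧ ∀ a : Fin 6 → ℤ, ∃ c ∈ T.T1,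
    ∀ r, chi R c r = v ^ (pr aE6 a (R.rt r) + q * pr aE6 (fun i => a (rho2E6 i)) (R.rt r)) := by
  obtain ⟨v, hv⟩ := exists_gen K
  rw [h.hK, Nat.cast_pow] at hv
  refine ⟨v, hv, fun a => ⟨fun i => v ^ (a i + q * a (rho2E6 i)), T.mem_T1.2 fun j => ?_,
    fun r => by rw [chi_zpow' h.hA, pr_add]; rfl⟩⟩
  rw [h.hφ, h.hρ, ← Units.val_pow_eq_pow_val, ← zpow_natCast, ← zpow_mul, Units.val_inj,
    ← mul_inv_eq_one, ← zpow_sub, hv, show rho2E6 (rho2E6 j) = j by revert j; decide]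
  exact ⟨-a (rho2E6 j), by ring⟩

theorem tsep (h2 : q ≠ 2) (k : Fin 4) (B : T.S.Cl) (h1 : B ≠ T.S.cs (gE6 k))
    (h3 : B ≠ (T.S.cs (gE6 k)).neg) : TSep T.X (T.S.cs (gE6 k)) B := by
  obtain ⟨v, hv, hc⟩ := h.exists_c
  obtain ⟨r, hr⟩ := B.nonempty
  obtain ⟨a, -, a1, a2, a3⟩ := sepE6 k _ (h.rt_mem r) (not_mem_of_ne h.orth h1 h3 hr)
  obtain ⟨c, hc, e⟩ := hc a
  refine tsep_of_orth h.h3 h.orth hc (T.S.sim_mem_PJ (T.S.mem_orb_self _)) hr ?_ ?_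
  · rw [e, R.rt_sim, a1, a2]; simp
  · rw [e, Ne, hv]
    exact a3.not_dvd (by have := h.two_le; omega)

theorem reg (h2 : q ≠ 2) (k : Fin 4) : ∃ t ∈ torus T.X, Fpf t (T.X (T.S.cs (gE6 k))) := by
  obtain ⟨v, hv, hc⟩ := h.exists_c
  obtain ⟨j, hj⟩ := regE6 k
  obtain ⟨c, hc, e⟩ := hc (Pi.single j 1)
  refine ⟨_, tt_mem h.h3 hc, fpf_tt h.h3 hc fun r hr e' => ?_⟩
  rw [chi_iff h.h3 h.orth hc hr (T.S.sim_mem_PJ (T.S.mem_orb_self _)), e, hv, R.rt_sim] at e'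
  exact hj.not_dvd (by have := h.two_le; omega) e'

theorem par0 : T.Par 0 [0, 5] fun j => if j = 0 then RingHom.id K else (T.φ 0 : K →+* K) :=
  par2 (h.orth 0) (by rw [h.hρ]; rfl) (by rw [h.hρ]; rfl) fun t => by rw [h.hφ, h.hφ, h.pow_pow]

theorem par24 : T.Par 2 [2, 4] fun j => if j = 2 then RingHom.id K else (T.φ 2 : K →+* K) :=
  par2 (h.orth 2) (by rw [h.hρ]; rfl) (by rw [h.hρ]; rfl) fun t => by rw [h.hφ, h.hφ, h.pow_pow]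

theorem card_FF (a : Fin 6) : Nat.card (T.FF a) = q := by
  rw [← card_fixed (K := K) (by have := h.two_le; omega) h.hK]
  exact Nat.card_congr (Equiv.subtypeEquivRight fun t => by rw [← h.hφ a]; rfl)

variable {Γ : Type*} [Group Γ] {π : Γ →* T.Γ} (hπ : CE π)

theorem ct (h2 : q ≠ 2) (k : Fin 4) : hπ.CT T.X (T.S.cs (gE6 k)) (T.S.cs (gE6 k)) := by
  have h4 : 4 < Nat.card K := by
    rw [Nat.card_eq_fintype_card, h.hK]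
    have := h.two_le
    have : 3 ≤ q := by omega
    nlinarith
  fin_cases k
  · exact ct_fixed hπ h.good h.len_eq (h.orth 3) (h.orth 1) 1
      (by rw [R.pair_sim_left]; exact (R.wt_sim _ _).trans (h.hA _ _))
  · exact ct_fixed hπ h.good h.len_eq (h.orth 1) (h.orth 3) 1
      (by rw [R.pair_sim_left]; exact (R.wt_sim _ _).trans (h.hA _ _))
  · refine h.par24.ct hπ h.h3 h4 fun a ha => ⟨![(Units.mk0 a ha)⁻¹, 1, 1, 1, 1, (Units.mk0 a ha)⁻¹ ^ q],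
      h.mem_T1.2 (by simp), by simp [h.ψ_eq, h.hφ]⟩
  · refine h.par0.ct hπ h.h3 h4 fun a ha => ⟨![1, 1, (Units.mk0 a ha)⁻¹, 1, (Units.mk0 a ha)⁻¹ ^ q, 1],
      h.mem_T1.2 (by simp), by simp [h.ψ_eq, h.hφ]⟩

variable [Finite G] (p : ℕ) [Fact p.Prime] [CharP K p]
include hπ

/-- The `p`-part of the multiplier of `²E₆(q)`, `q > 2`. -/
theorem kerPP (h2 : q ≠ 2) (hs : π.ker ≤ commutator Γ) : KerPP π p := by
  obtain ⟨Y, hY⟩ := exists_tlift_of_ct hπ (E := (h.good.rgd h.hg).toPre)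
    (h.good.torus_comm h.hg h.G1_eq h.h3) (h.ct hπ h2) (h.reg h2)
  exact (hY.goodLift (tsep_of_simple fun k B h1 h3 => Or.inl (h.tsep h2 k B h1 h3))).kerPP
    (h.good.faith h.hg) (h.good.Gp_eq h.hg h.G1_eq) (h.good.isPGroup_X p)
    (h.good.H0_eq h.hg h.G1_eq ▸ not_dvd_card_H1 h.h3 p) hs

/-- The `p'`-part of the multiplier of `²E₆(q)`. -/
theorem card_ker_dvd (hk : KerPP π p) (hs : π.ker ≤ commutator Γ) :
    Nat.card π.ker ∣ Nat.gcd 3 (q + 1) := by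
  have hK : Nat.card K = q ^ 2 := by rw [Nat.card_eq_fintype_card, h.hK]
  have := hπ.card_ker_mul_dvd hk (h.good.isPGroup_X p) (h.good.faith h.hg)
    (h.good.Gp_eq h.hg h.G1_eq) hs ![q - 1, q - 1, q ^ 2 - 1, q ^ 2 - 1] fun k => by
      fin_cases k
      · exact (hπ.card_T_lift_dvd hk _ (h.good.faith h.hg)
          (Par.node h.hg h.good (k := 0) (par1 (h.orth 1)))).trans (by rw [h.card_FF]; rfl)
      · exact (hπ.card_T_lift_dvd hk _ (h.good.faith h.hg)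
          (Par.node h.hg h.good (k := 1) (par1 (h.orth 3)))).trans (by rw [h.card_FF]; rfl)
      · exact (hπ.card_T_lift_dvd hk _ (h.good.faith h.hg)
          (Par.node h.hg h.good (k := 2) h.par24)).trans (by rw [hK]; rfl)
      · exact (hπ.card_T_lift_dvd hk _ (h.good.faith h.hg)
          (Par.node h.hg h.good (k := 3) h.par0)).trans (by rw [hK]; rfl)
  rw [h.good.H0_eq h.hg h.G1_eq, card_H1, Fin.prod_univ_four] at this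
  refine Nat.dvd_of_mul_dvd_mul_right (Nat.card_pos (α := ↥(E.H ⊓ T.Γ))) ?_
  rw [h.card_H]
  convert this using 1
  simp; ring

end IsE6

end H39
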