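import Mathlib
import Cfsg.Agent.Lib.Twist.MultC
import Cfsg.Agent.Lib.Twist.F4

/-!
# The twisted group of type `²F₄`: commuting root elements, separation by torus elements
-/

set_option autoImplicit false
set_option linter.unusedSectionVars false

open scoped commutatorElement

namespace H39

open H38 H63.St

section Gen

variable {ι l : Type} [Fintype l] [DecidableEq l] {R : RS ι l} {K : Type*} [Field K]
  {G : Type*} [Group G] [Finite ι] {E : Elts R K G}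

theorem comm_x' (hF : E.Faith) {a b : ι} (hp : R.pair a b = -1) (hne : R.refl a b ≠ b)
    (h1 : b ≠ R.neg a ∧ R.Cone a b ⊆ {R.refl a b})
    (h2 : R.refl a b ≠ R.neg (R.neg a) ∧ R.Cone (R.neg a) (R.refl a b) ⊆ {b})
    (h3 : ∀ t u, Commute (E.x (R.neg a) t) (E.x b u)) (h4 : ∀ t u, Commute (E.x b t) (E.x (R.refl a b) u))
    (t u : K) : ⁅E.x a t, E.x b u⁆ = E.x (R.refl a b) (E.η a b * t * u) := by
  by_cases ht : t = 0
  · simp [ht, E.x_zero]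
  have c1 := E.XS_mono h1.2 (E.comm_of_ne_neg h1.1 t u)
  have c2 := E.XS_mono h2.2 (E.comm_of_ne_neg h2.1 t⁻¹ (E.η a b * t * u))
  rw [PreElts.XS_singleton] at c1 c2
  obtain ⟨v, hv⟩ := c1
  obtain ⟨v', hv'⟩ := c2
  have e1 := E.nconj a b t ht u
  have e2 := E.n_neg_root a (c := -t⁻¹) (by simpa using ht)
  rw [inv_neg, inv_inv, neg_neg, PreElts.n, R.neg_neg, inv_neg, inv_inv, neg_neg] at e2
  have e3 := (h3 (-t⁻¹) u).eq
  have e4 := (h4 u (-(E.η a b * t * u))).eq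
  rw [hp, neg_neg, zpow_one, ← e2, E.x_neg] at e1
  rw [E.x_neg] at e3 e4
  have e5 : E.x (R.refl a b) (v + -(E.η a b * t * u)) = E.x b (v' + -u) := by
    symm
    rw [← E.x_add, ← E.x_add, E.x_neg, E.x_neg, hv, hv']
    generalize E.x (R.refl a b) (E.η a b * t * u) = y at *
    generalize E.x (R.neg a) t⁻¹ = p at *
    generalize E.x b u = q at *
    generalize E.x a t = z at *
    calc _ = z * (p⁻¹ * q) * p * z⁻¹ * (y⁻¹ * q⁻¹) := by nth_rw 1 [← e1]; group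
      _ = z * q * z⁻¹ * q⁻¹ * (q * y⁻¹) * q⁻¹ := by rw [e3]; group
      _ = _ := by rw [e4]; group
  have e6 : v + -(E.η a b * t * u) = 0 := by
    by_contra h
    exact hne (root_eq_of_x_eq hF h e5)
  rw [commutatorElement_def, ← hv, show v = E.η a b * t * u by linear_combination e6]

theorem commute_XS {A B : Set ι} (h : ∀ a ∈ A, ∀ b ∈ B, ∀ t u, Commute (E.x a t) (E.x b u)) {x y : G}
    (hx : x ∈ E.XS A) (hy : y ∈ E.XS B) : Commute x y :=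
  E.XS_induction (P := fun x => Commute x y) hx (fun a ha t =>
    E.XS_induction (P := fun y => Commute _ y) hy (fun b hb u => h a ha b hb t u) (Commute.one_right _)
      fun _ _ _ _ => Commute.mul_right) (Commute.one_left _) fun _ _ _ _ => Commute.mul_left

theorem Tw.commute_of_τ (T : Tw E) {a b : ι} (h : ∀ t u, Commute (E.x (T.S.τ a) t) (E.x (T.S.τ b) u))
    (t u : K) : Commute (E.x a t) (E.x b u) := by
  obtain ⟨i, d, -, hd⟩ := T.σ_x a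
  obtain ⟨j, d', -, hd'⟩ := T.σ_x b
  exact T.σ.injective (by rw [map_mul, map_mul, hd, hd', (h _ _).eq])

end Gen

/-- The roots of type `F₄`. -/
def rlF4 : List (Fin 4 → ℤ) :=
  [![0, 0, 0, 1], ![0, 0, 1, 0], ![0, 1, 0, 0], ![1, 0, 0, 0], ![-1, 0, 0, 0], ![0, -1, 0, 0],
   ![0, 0, -1, 0], ![0, 0, 0, -1], ![0, 0, 1, 1], ![0, 1, 1, 0], ![1, 1, 0, 0], ![-1, -1, 0, 0],
   ![0, -1, -1, 0], ![0, 0, -1, -1], ![0, 1, 1, 1], ![0, 2, 1, 0], ![1, 1, 1, 0], ![-1, -1, -1, 0],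
   ![0, -2, -1, 0], ![0, -1, -1, -1], ![0, 2, 1, 1], ![1, 1, 1, 1], ![1, 2, 1, 0],
   ![-1, -2, -1, 0], ![-1, -1, -1, -1], ![0, -2, -1, -1], ![0, 2, 2, 1], ![1, 2, 1, 1],
   ![2, 2, 1, 0], ![-2, -2, -1, 0], ![-1, -2, -1, -1], ![0, -2, -2, -1], ![1, 2, 2, 1],
   ![2, 2, 1, 1], ![-2, -2, -1, -1], ![-1, -2, -2, -1], ![1, 3, 2, 1], ![2, 2, 2, 1],
   ![-2, -2, -2, -1], ![-1, -3, -2, -1], ![2, 3, 2, 1], ![-2, -3, -2, -1], ![2, 4, 2, 1],
   ![-2, -4, -2, -1], ![2, 4, 3, 1], ![-2, -4, -3, -1], ![2, 4, 3, 2], ![-2, -4, -3, -2]]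

/-- The Cartan matrix of type `F₄`. -/
def aF4 (i j : Fin 4) : ℤ := matF 4 alF4 j i

/-- The invariant form. -/
def bF4 (x y : Fin 4 → ℤ) : ℤ := x 0 * (2 * y 0 - y 1) + x 1 * (2 * y 1 - y 0 - 2 * y 2) +
  x 2 * (4 * y 2 - 2 * y 1 - 2 * y 3) + x 3 * (4 * y 3 - 2 * y 2)

/-- A criterion for the cone spanned by two roots. -/
def CkF4 (x y : Fin 4 → ℤ) (L : List (Fin 4 → ℤ)) : Prop :=
  0 ≤ bF4 x y ∧ 4 < bF4 x x + bF4 y y + 2 * bF4 x y ∨
    bF4 x x = bF4 y y ∧ bF4 x x = -2 * bF4 x y ∧ x + y ∈ L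

instance (x y : Fin 4 → ℤ) (L : List (Fin 4 → ℤ)) : Decidable (CkF4 x y L) := by
  unfold CkF4; infer_instance

/-- Representatives of the orbits of the nodes. -/
def gF4 : Fin 2 → Fin 4 := ![0, 1]

/-- The fundamental classes of roots. -/
def lcF4 : Fin 2 → List (Fin 4 → ℤ) :=
  ![[![1, 0, 0, 0], ![0, 0, 0, 1]], [![0, 1, 0, 0], ![0, 0, 1, 0], ![0, 1, 1, 0], ![0, 2, 1, 0]]]

/-- Separating cocharacters, rational part. -/
def uF4 : Fin 2 → Fin 4 → ℤ := ![![1, 2, 0, 0], ![2, 1, 0, -2]]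

/-- Separating cocharacters, irrational part. -/
def vF4 : Fin 2 → Fin 4 → ℤ := ![![0, 0, 2, 1], ![-1, 0, 1, 2]]

/-- The simple reflections. -/
def sF4 (i : Fin 4) (x : Fin 4 → ℤ) : Fin 4 → ℤ :=
  fun j => if j = i then x i - ∑ k, x k * aF4 i k else x j

theorem rlF4_closed : ∀ i, ∀ x ∈ rlF4, sF4 i x ∈ rlF4 := by decide +kernel

theorem sepF4 : ∀ k, ∀ x ∈ rlF4, x ∈ lcF4 k ∨ -x ∈ lcF4 k ∨
    pr aF4 (uF4 k) x ^ 2 - 2 * pr aF4 (vF4 k) x ^ 2 ∣ 8 := by decide +kernel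

variable {ι : Type} [Finite ι] {R : RS ι (Fin 4)} {K : Type*} [Field K] [Fintype K]
  {G : Type*} [Group G] {E : Elts R K G}

namespace IsF4

open Tw RTw RTw.Cl

variable {T : Tw E} {e : ℕ} (h : IsF4 T e)
include h

theorem hg (i : Fin 4) : ∃ k, i ∈ T.S.orb (gF4 k) := (h.orb_cases i).elim (⟨0, ·⟩) (⟨1, ·⟩)

theorem rt_mem (r : ι) : R.rt r ∈ rlF4 := rt_mem_list h.hA _ (by decide +kernel) rlF4_closed r

theorem norm (r : ι) : 2 ≤ bF4 (R.rt r) (R.rt r) ∧ bF4 (R.rt r) (R.rt r) ≤ 4 :=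
  (by decide +kernel : ∀ x ∈ rlF4, 2 ≤ bF4 x x ∧ bF4 x x ≤ 4) _ (h.rt_mem r)

theorem form_eq (x y : Fin 4 → ℤ) : R.form x y = R.len (R.sim 0) * bF4 x y := by
  have h1 := R.A_symm 0 1
  have h2 := R.A_symm 1 2
  have h3 := R.A_symm 2 3
  simp only [RS.form, RS.wtv, Fin.sum_univ_four, bF4, h.hA] at h1 h2 h3 ⊢
  simp [matF, alF4] at h1 h2 h3 ⊢
  rw [← h3, ← h2, ← h1]; ring

theorem pair_eq (a b : ι) : bF4 (R.rt a) (R.rt a) * R.pair a b = 2 * bF4 (R.rt a) (R.rt b) := by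
  have h1 := R.form_self a
  have h2 := R.form_rt a (R.rt b)
  rw [h.form_eq] at h1 h2
  refine mul_left_cancel₀ (R.len_ne (R.sim 0)) ?_
  rw [← mul_assoc, h1, mul_left_comm, h2, mul_assoc]; rfl

theorem cone {a b : ι} {L : List (Fin 4 → ℤ)} (H : CkF4 (R.rt a) (R.rt b) L) :
    b ≠ R.neg a ∧ ∀ k ∈ R.Cone a b, R.rt k ∈ L := by
  have ha := h.norm a
  refine ⟨?_, ?_⟩
  · rintro rfl
    have : bF4 (R.rt a) (R.rt (R.neg a)) = -bF4 (R.rt a) (R.rt a) := by simp [R.rt_neg, bF4]; ring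
    rw [CkF4, this] at H
    omega
  rintro k ⟨i, j, hi, hj, hk⟩
  have hb := h.norm b
  have h1 := (h.norm k).2
  rw [show bF4 (R.rt k) (R.rt k) = i ^ 2 * bF4 (R.rt a) (R.rt a) + j ^ 2 * bF4 (R.rt b) (R.rt b) +
    i * j * (2 * bF4 (R.rt a) (R.rt b)) by simp [hk, bF4]; ring] at h1
  rcases H with ⟨h2, h3⟩ | ⟨h2, h3, h4⟩
  · have a1 : 1 ≤ i * j := by nlinarith
    have a2 : 1 ≤ i ^ 2 := by nlinarith
    have a3 : 1 ≤ j ^ 2 := by nlinarith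
    nlinarith
  · rw [← h2, show 2 * bF4 (R.rt a) (R.rt b) = -bF4 (R.rt a) (R.rt a) by omega] at h1
    have h5 : i ^ 2 + j ^ 2 - i * j ≤ 2 := by nlinarith [sq_nonneg (i - j)]
    obtain rfl : i = 1 := by nlinarith [sq_nonneg (i - 2 * j), sq_nonneg (i - j)]
    obtain rfl : j = 1 := by nlinarith
    rwa [hk, one_smul, one_smul]

theorem commute {a b : ι} (H : CkF4 (R.rt a) (R.rt b) []) (t u : K) : Commute (E.x a t) (E.x b u) := by
  have := E.comm_of_ne_neg (h.cone H).1 t u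
  rwa [Set.eq_empty_of_forall_notMem fun k hk => List.not_mem_nil ((h.cone H).2 k hk), E.XS_empty,
    Subgroup.mem_bot, mul_inv_eq_one, mul_inv_eq_iff_eq_mul] at this

theorem comm_x {a b c : ι} (h1 : bF4 (R.rt a) (R.rt a) = bF4 (R.rt b) (R.rt b))
    (h2 : bF4 (R.rt a) (R.rt a) = -2 * bF4 (R.rt a) (R.rt b)) (h3 : R.rt c = R.rt a + R.rt b) (t u : K) :
    ⁅E.x a t, E.x b u⁆ = E.x c (t * u) := by
  have := h.char
  have ha := h.norm a
  have hp : R.pair a b = -1 := mul_left_cancel₀ (by omega : bF4 (R.rt a) (R.rt a) ≠ 0) (by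
    rw [h.pair_eq]; omega)
  obtain rfl : c = R.refl a b := R.rt_inj (by rw [R.rt_refl, hp, h3]; module)
  have k : ∀ {a b c : ι}, CkF4 (R.rt a) (R.rt b) [R.rt c] → b ≠ R.neg a ∧ R.Cone a b ⊆ {c} :=
    fun H => ⟨(h.cone H).1, fun k hk => R.rt_inj (List.mem_singleton.1 ((h.cone H).2 k hk))⟩
  have hne : R.refl a b ≠ b := fun e => by
    rw [e, right_eq_add] at h3
    simp [h3, bF4] at ha
  rw [comm_x' T.hF hp hne (k (.inr ⟨h1, h2, by simp [h3]⟩)) (k (.inr ⟨?_, ?_, by simp [h3, R.rt_neg]⟩))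
    (h.commute (.inl ⟨?_, ?_⟩)) (h.commute (.inl ⟨?_, ?_⟩))]
  · rcases E.η_sign a b with e | e <;> simp [e, CharTwo.neg_eq]
  all_goals
    simp only [h3, R.rt_neg, bF4, Pi.add_apply, Pi.neg_apply] at h1 h2 ha ⊢
    linarith

theorem rt_s (i : Fin 4) (r : ι) : R.rt (R.s i r) = sF4 i (R.rt r) := by
  funext j
  rw [R.s_apply, sF4]
  split_ifs with e
  · rw [e, R.rt_σ_self, RS.wt, RS.wtv]; simp only [h.hA, aF4]
  · exact R.rt_σ_ne i r e

theorem wo0 (r : ι) : T.S.wo 0 r = R.s 0 (R.s 3 r) := by rw [h.orth0.wo_eq]; rfl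

theorem wo1 (r : ι) : T.S.wo 1 r = R.s 1 (R.s 2 (R.s 1 (R.s 2 r))) := by
  have m1 := R.s_mem_WJ (J := {1, 2}) (i := 1) (by simp)
  have m2 := R.s_mem_WJ (J := {1, 2}) (i := 2) (by simp)
  rw [RTw.wo, h.orb1, ← R.eq_wJ (mul_mem m1 (mul_mem m2 (mul_mem m1 m2))) ?_]
  · rfl
  rintro i (rfl | rfl) <;> simp only [Equiv.Perm.mul_apply, RS.Pos, h.rt_s, R.rt_sim, Pi.le_def] <;>
    decide +kernel

theorem mem_cs (k : Fin 2) {r : ι} : r ∈ (T.S.cs (gF4 k)).1 ↔ R.rt r ∈ lcF4 k := by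
  have e : ∀ {r s : ι} {x}, R.rt s = x → (r = s ↔ R.rt r = x) := fun e => e ▸ R.rt_inj.eq_iff.symm
  fin_cases k
  · change r ∈ T.S.PJ 0 ↔ R.rt r ∈ [_, _]
    rw [h.orth0.PJ_eq, List.mem_pair, ← e (s := R.sim 0) (by rw [R.rt_sim]; decide),
      ← e (s := R.sim 3) (by rw [R.rt_sim]; decide)]
    simp [← h.orth0.mem, eq_comm]
  · change r ∈ T.S.PJ 1 ↔ R.rt r ∈ [_, _, _, _]
    simp only [h.PJ1, Set.mem_insert_iff, Set.mem_singleton_iff, List.mem_cons, List.not_mem_nil, or_false]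
    rw [e (x := ![0, 1, 0, 0]) (by rw [R.rt_sim]; decide), e (x := ![0, 0, 1, 0]) (by rw [R.rt_sim]; decide),
      e h.rt_c, e h.rt_d]

theorem zpow_card (v : Kˣ) (n : ℤ) : v ^ (2 * e ^ 2 * n : ℤ) = v ^ n := by
  rw [zpow_mul]
  congr 1
  exact_mod_cast Units.ext (by rw [Units.val_pow_eq_pow_val, ← h.hK, FiniteField.pow_card])

theorem tsep (hq : 2 < Fintype.card K) (k : Fin 2) (B : T.S.Cl) (h1 : B ≠ T.S.cs (gF4 k))
    (h2 : B ≠ (T.S.cs (gF4 k)).neg) : TSep T.X (T.S.cs (gF4 k)) B := by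
  have := h.char
  obtain ⟨v, hv⟩ : ∃ v : Kˣ, v ≠ 1 := by
    have : Nontrivial Kˣ := Finite.one_lt_card_iff_nontrivial.1 (by
      rw [Nat.card_units, Nat.card_eq_fintype_card]; omega)
    exact exists_ne 1
  have hc : (fun i => v ^ (uF4 k i + (2 * e : ℤ) * vF4 k i)) ∈ T.T1 := by
    have : ∀ a b : ℤ, v ^ (a + 2 * e * b) = (v ^ (2 * b + 2 * e * a)) ^ e := fun a b => by
      rw [← zpow_natCast, ← zpow_mul, zpow_add, ← h.zpow_card v a, ← zpow_add]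
      congr 1; ring
    rw [h.mem_T1, this (uF4 k 0), this (uF4 k 1)]
    fin_cases k <;> exact ⟨rfl, rfl⟩
  refine tsep_of_tor h.h3 hc (fun r hr => ?_) fun r hr e' => hv ?_
  · obtain ⟨a1, a2⟩ := (by decide +kernel : ∀ k, ∀ x ∈ lcF4 k, pr aF4 (uF4 k) x = 0 ∧
      pr aF4 (vF4 k) x = 0) k _ ((h.mem_cs k).1 hr)
    rw [chi_zpow' h.hA, pr_add]
    change v ^ (pr aF4 _ _ + _ * pr aF4 _ _) = 1
    rw [a1, a2, mul_zero, add_zero, zpow_zero]
  rcases sepF4 k _ (h.rt_mem r) with a | a | ⟨n, hn⟩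
  · exact absurd (eq_of_mem hr ((h.mem_cs k).2 a)) h1
  · exact absurd (eq_of_mem hr (mem_neg.2 ((h.mem_cs k).2 (R.rt_neg r ▸ a)))) h2
  rw [chi_zpow' h.hA, pr_add] at e'
  change v ^ (pr aF4 _ _ + _ * pr aF4 _ _) = 1 at e'
  generalize pr aF4 (uF4 k) (R.rt r) = a at *
  generalize pr aF4 (vF4 k) (R.rt r) = b at *
  have a1 : v ^ (a ^ 2 - 2 * b ^ 2) = 1 := by
    rw [zpow_sub, ← h.zpow_card v (2 * b ^ 2), ← zpow_sub, show a ^ 2 - 2 * e ^ 2 * (2 * b ^ 2) =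
      (a + 2 * e * b) * (a - 2 * e * b) by ring, zpow_mul, e', one_zpow]
  have a2 : v ^ 2 ^ 3 = 1 := by
    rw [← zpow_natCast, show ((2 ^ 3 : ℕ) : ℤ) = 8 from rfl, hn, zpow_mul, a1, one_zpow]
  exact Units.ext ((iterateFrobeniusEquiv K 2 3).injective (by
    rw [iterateFrobeniusEquiv_def, ← Units.val_pow_eq_pow_val, a2, Units.val_one, map_one]))

end IsF4

end H39
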